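import Mathlib
import Cfsg.Agent.S3993
import Cfsg.Agent.Lib.Helper4.Sixty5
import Cfsg.Agent.Lib.Lead.SylowCount

/-!
# Numbers of elements of each order

`sc G m` is the number of elements of order `m` of the finite group `G`. Basic facts: `φ(m) ∣ sc G m`,
Frobenius' theorem `m ∣ |G| → m ∣ ∑ d ∣ m, sc G d`, the class equation `|G| = ∑ d ∣ |G|, sc G d`,
and `p * sc G (p ^ (k - 1)) ≤ sc G (p ^ k)` when `p ^ k` is the order of the Sylow `p`-subgroups.
-/

set_option autoImplicit false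

namespace Cfsg.Agent.Lib.Helper5.NSE

/-- the number of elements of order `m` -/
noncomputable def sc (G : Type*) [Group G] (m : ℕ) : ℕ := Nat.card {g : G // orderOf g = m}

variable {G : Type*} [Group G] [Finite G]

theorem sc_pos_iff {m : ℕ} : 0 < sc G m ↔ ∃ g : G, orderOf g = m := by
  unfold sc
  rw [Nat.card_pos_iff]
  constructor
  · rintro ⟨⟨g, hg⟩, -⟩
    exact ⟨g, hg⟩
  · rintro ⟨g, hg⟩
    exact ⟨⟨⟨g, hg⟩⟩, inferInstance⟩

omit [Finite G] in
theorem sc_one : sc G 1 = 1 := by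
  unfold sc
  rw [Nat.card_eq_one_iff_unique]
  refine ⟨⟨?_⟩, ⟨⟨1, orderOf_one⟩⟩⟩
  rintro ⟨a, ha⟩ ⟨b, hb⟩
  rw [orderOf_eq_one_iff] at ha hb
  exact Subtype.ext (ha.trans hb.symm)

theorem sc_zero : sc G 0 = 0 := by
  by_contra h
  obtain ⟨g, hg⟩ := sc_pos_iff.mp (Nat.pos_of_ne_zero h)
  exact (orderOf_pos g).ne' hg

theorem dvd_card_of_sc_pos {m : ℕ} (h : 0 < sc G m) : m ∣ Nat.card G := by
  obtain ⟨g, rfl⟩ := sc_pos_iff.mp h
  exact orderOf_dvd_natCard g

theorem sc_eq_zero_of_not_dvd {m : ℕ} (h : ¬ m ∣ Nat.card G) : sc G m = 0 := by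
  by_contra h0
  exact h (dvd_card_of_sc_pos (Nat.pos_of_ne_zero h0))

theorem sc_pos_of_dvd {m d : ℕ} (h : 0 < sc G m) (hd : d ∣ m) : 0 < sc G d := by
  obtain ⟨g, rfl⟩ := sc_pos_iff.mp h
  obtain ⟨k, hk⟩ := hd
  have hpos : 0 < orderOf g := orderOf_pos g
  have hk0 : k ≠ 0 := by
    rintro rfl
    rw [mul_zero] at hk
    omega
  have hd0 : 0 < d := by
    rcases Nat.eq_zero_or_pos d with h0 | h0
    · rw [h0, zero_mul] at hk; omega
    · exact h0
  rw [sc_pos_iff]
  refine ⟨g ^ k, ?_⟩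
  rw [orderOf_pow_of_dvd hk0 (Dvd.intro_left d hk.symm), hk]
  exact Nat.mul_div_cancel d (Nat.pos_of_ne_zero hk0)

theorem sc_eq_zero_of_dvd {m d : ℕ} (h : sc G d = 0) (hd : d ∣ m) : sc G m = 0 := by
  by_contra h0
  have := sc_pos_of_dvd (Nat.pos_of_ne_zero h0) hd
  omega

theorem sc_prime_pos {p : ℕ} (hp : p.Prime) (h : p ∣ Nat.card G) : 0 < sc G p := by
  have : Fact p.Prime := ⟨hp⟩
  obtain ⟨g, hg⟩ := exists_prime_orderOf_dvd_card' p h
  exact sc_pos_iff.mpr ⟨g, hg⟩

omit [Finite G] in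
theorem sc_eq_card_filter [Fintype G] [DecidableEq G] (m : ℕ) :
    sc G m = (Finset.univ.filter (fun g : G => orderOf g = m)).card := by
  unfold sc
  rw [Nat.card_eq_fintype_card, Fintype.card_subtype]

/-- `φ(m)` divides the number of elements of order `m` -/
theorem totient_dvd_sc (m : ℕ) : Nat.totient m ∣ sc G m := by
  classical
  have : Fintype G := Fintype.ofFinite G
  rw [sc_eq_card_filter, Finset.card_eq_sum_card_image (fun g : G => Subgroup.zpowers g)]
  apply Finset.dvd_sum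
  intro C hC
  rw [Finset.mem_image] at hC
  obtain ⟨g0, hg0, rfl⟩ := hC
  rw [Finset.mem_filter] at hg0
  have hm : orderOf g0 = m := hg0.2
  have hcardC : Nat.card (Subgroup.zpowers g0) = m := by rw [Nat.card_zpowers, hm]
  -- the fibre is the set of generators of the cyclic group `zpowers g0`
  have h1 := IsCyclic.card_orderOf_eq_totient (α := ↥(Subgroup.zpowers g0)) (d := m)
    (by rw [← Nat.card_eq_fintype_card, hcardC])
  rw [← h1]
  apply dvd_of_eq
  symm
  apply Finset.card_bij (fun g hg => ⟨g, by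
    rw [Finset.mem_filter] at hg
    rw [← hg.2]
    exact Subgroup.mem_zpowers g⟩)
  · intro g hg
    rw [Finset.mem_filter] at hg ⊢
    refine ⟨Finset.mem_univ _, ?_⟩
    rw [Subgroup.orderOf_mk]
    exact (Finset.mem_filter.mp hg.1).2
  · intro a ha b hb hab
    exact congrArg Subtype.val hab
  · rintro ⟨x, hx⟩ hx'
    rw [Finset.mem_filter, Subgroup.orderOf_mk] at hx'
    refine ⟨x, ?_, rfl⟩
    rw [Finset.mem_filter, Finset.mem_filter]
    refine ⟨⟨Finset.mem_univ _, hx'.2⟩, ?_⟩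
    apply Subgroup.eq_of_le_of_card_ge (Subgroup.zpowers_le.mpr hx)
    rw [Nat.card_zpowers, Nat.card_zpowers, hx'.2, hm]

/-- the number of solutions of `g ^ m = 1` -/
theorem card_pow_eq_one_eq_sum {m : ℕ} (hm : 0 < m) :
    Nat.card {g : G // g ^ m = 1} = ∑ d ∈ m.divisors, sc G d := by
  classical
  have : Fintype G := Fintype.ofFinite G
  rw [Nat.card_eq_fintype_card, Fintype.card_subtype,
    Finset.card_eq_sum_card_fiberwise (f := fun g : G => orderOf g) (t := m.divisors)]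
  · apply Finset.sum_congr rfl
    intro d hd
    rw [sc_eq_card_filter]
    congr 1
    ext g
    simp only [Finset.mem_filter, Finset.mem_univ, true_and]
    constructor
    · exact fun h => h.2
    · intro h
      refine ⟨?_, h⟩
      rw [← orderOf_dvd_iff_pow_eq_one, h]
      exact Nat.dvd_of_mem_divisors hd
  · intro g hg
    rw [Finset.mem_coe, Finset.mem_filter] at hg
    rw [Finset.mem_coe, Nat.mem_divisors]
    exact ⟨orderOf_dvd_of_pow_eq_one hg.2, hm.ne'⟩

/-- Frobenius' theorem in terms of `sc` -/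
theorem frobenius {m : ℕ} (hm : m ∣ Nat.card G) : m ∣ ∑ d ∈ m.divisors, sc G d := by
  have hpos : 0 < m := Nat.pos_of_dvd_of_pos hm Nat.card_pos
  rw [← card_pow_eq_one_eq_sum hpos]
  exact Cfsg.Agent.S3993.result m hm

theorem card_eq_sum : Nat.card G = ∑ d ∈ (Nat.card G).divisors, sc G d := by
  rw [← card_pow_eq_one_eq_sum Nat.card_pos]
  apply Nat.card_congr
  exact (Equiv.subtypeUnivEquiv (fun g => pow_card_eq_one')).symm

end Cfsg.Agent.Lib.Helper5.NSE
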