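import Mathlib
import Cfsg.Agent.Lib.Helper5.NSE.Basic
import Cfsg.Agent.Lib.Helper5.Ord.Tools

/-!
# Numbers of elements of each order, continued

* `pow_lemma`: if `p ^ k` (`k ≥ 2`) is the order of the Sylow `p`-subgroups and there is an element of
  order `p ^ k`, then `p * sc G (p ^ (k - 1)) ≤ sc G (p ^ k)`.
* `sc_prime_eq`: `sc G p = n_p * (p - 1)` when the Sylow `p`-subgroups have order `p`.
* `exists_eq_pow_mul_pow_mul_pow`: a number whose prime divisors are among `2, 3, 5`.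
* unpacking of the hypothesis `nse(G) = S`.
-/

set_option autoImplicit false

namespace Cfsg.Agent.Lib.Helper5.NSE

open Cfsg.Agent.Lib.Lead.SylowCount Cfsg.Agent.Lib.Helper5.Ord
open scoped Pointwise

variable {G : Type*} [Group G] [Finite G]

theorem pow_lemma {p : ℕ} (hp : p.Prime) (k r : ℕ) (hk : 2 ≤ k) (hn : Nat.card G = p ^ k * r)
    (hr : ¬ p ∣ r) (hpos : 0 < sc G (p ^ k)) : p * sc G (p ^ (k - 1)) ≤ sc G (p ^ k) := by
  classical
  have : Fact p.Prime := ⟨hp⟩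
  obtain ⟨w0, hw0⟩ := sc_pos_iff.mp hpos
  have hkk : p ^ (k - 1) * p = p ^ k := by
    rw [← pow_succ]; congr 1; omega
  have hcardSyl : ∀ Q : Sylow p G, Nat.card (Q : Subgroup G) = p ^ k := fun Q =>
    card_sylow_of_card_eq_pow p k r hn hr Q
  -- every Sylow subgroup is generated by an element of order `p ^ k`
  have hcyc : ∀ Q : Sylow p G, ∃ w : G, orderOf w = p ^ k ∧
      (Q : Subgroup G) = Subgroup.zpowers w := by
    intro Q
    have h1 : IsPGroup p (Subgroup.zpowers w0) :=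
      IsPGroup.of_card (n := k) (by rw [Nat.card_zpowers, hw0])
    obtain ⟨Q0, hQ0⟩ := h1.exists_le_sylow
    obtain ⟨g, hg⟩ := MulAction.exists_smul_eq G Q0 Q
    have hord : orderOf (g * w0 * g⁻¹) = p ^ k := by
      have := (MulAut.conj g).orderOf_eq w0
      rw [MulAut.conj_apply] at this
      rw [this, hw0]
    refine ⟨g * w0 * g⁻¹, hord, ?_⟩
    symm
    apply Subgroup.eq_of_le_of_card_ge
    · rw [Subgroup.zpowers_le, ← hg, Sylow.coe_subgroup_smul, mem_conj_smul_iff]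
      have : g⁻¹ * (g * w0 * g⁻¹) * g = w0 := by group
      rw [this]
      exact hQ0 (Subgroup.mem_zpowers w0)
    · rw [Nat.card_zpowers, hord, hcardSyl Q]
  -- `p`-th roots
  have hroot : ∀ u : {u : G // orderOf u = p ^ (k - 1)},
      ∃ c : G, orderOf c = p ^ k ∧ c ^ p = u.1 := by
    rintro ⟨u, hu⟩
    have h1 : IsPGroup p (Subgroup.zpowers u) :=
      IsPGroup.of_card (n := k - 1) (by rw [Nat.card_zpowers, hu])
    obtain ⟨Q, hQ⟩ := h1.exists_le_sylow
    obtain ⟨w, hw, hQw⟩ := hcyc Q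
    have huw : u ∈ Subgroup.zpowers w := by
      rw [← hQw]; exact hQ (Subgroup.mem_zpowers u)
    rw [← mem_powers_iff_mem_zpowers] at huw
    obtain ⟨i, hi⟩ := (Submonoid.mem_powers_iff _ _).mp huw
    have hord : orderOf (w ^ i) = p ^ k / Nat.gcd (p ^ k) i := by rw [orderOf_pow, hw]
    rw [hi, hu] at hord
    have hg : Nat.gcd (p ^ k) i = p := by
      have hdvd : Nat.gcd (p ^ k) i ∣ p ^ k := Nat.gcd_dvd_left _ _
      have h2 := Nat.div_mul_cancel hdvd
      rw [← hord] at h2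
      exact Nat.eq_of_mul_eq_mul_left (pow_pos hp.pos _) (h2.trans hkk.symm)
    obtain ⟨j, hj⟩ : p ∣ i := by
      have := Nat.gcd_dvd_right (p ^ k) i
      rwa [hg] at this
    refine ⟨w ^ j, ?_, ?_⟩
    · rw [orderOf_pow, hw]
      have hcop : Nat.gcd (p ^ k) j = 1 := by
        apply Nat.Coprime.pow_left
        rw [Nat.Prime.coprime_iff_not_dvd hp]
        intro hpj
        have h3 : p ^ 2 ∣ Nat.gcd (p ^ k) i :=
          Nat.dvd_gcd (pow_dvd_pow p hk) (by rw [hj, pow_two]; exact mul_dvd_mul_left p hpj)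
        rw [hg] at h3
        have h4 := Nat.le_of_dvd hp.pos h3
        have h5 := hp.two_le
        nlinarith
      rw [hcop, Nat.div_one]
    · show (w ^ j) ^ p = u
      rw [← pow_mul, mul_comm, ← hj, hi]
  choose c hc1 hc2 using hroot
  have hcop : ∀ s : ℕ, Nat.gcd (p ^ k) (1 + s * p ^ (k - 1)) = 1 := by
    intro s
    apply Nat.Coprime.pow_left
    rw [Nat.Prime.coprime_iff_not_dvd hp]
    intro hd
    have h3 : p ∣ s * p ^ (k - 1) := Dvd.dvd.mul_left (dvd_pow_self p (by omega)) _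
    have h4 := (Nat.dvd_add_left h3).mp hd
    exact hp.one_lt.ne' (Nat.dvd_one.mp h4)
  have hpow : ∀ (v : {u : G // orderOf u = p ^ (k - 1)}) (s : ℕ),
      (c v ^ (1 + s * p ^ (k - 1))) ^ p = v.1 := by
    intro v s
    have h3 : v.1 ^ (p ^ (k - 1)) = 1 := by
      have h4 := pow_orderOf_eq_one v.1
      rwa [v.2] at h4
    rw [← pow_mul, mul_comm, pow_mul, hc2 v, pow_add, pow_one, mul_comm s, pow_mul, h3, one_pow,
      mul_one]
  let Φ : {u : G // orderOf u = p ^ (k - 1)} × Fin p → {g : G // orderOf g = p ^ k} := fun x =>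
    ⟨c x.1 ^ (1 + x.2.1 * p ^ (k - 1)), by
      rw [orderOf_pow, hc1, hcop, Nat.div_one]⟩
  have hΦ : Function.Injective Φ := by
    rintro ⟨u, t⟩ ⟨u', t'⟩ h
    have h1 : c u ^ (1 + t.1 * p ^ (k - 1)) = c u' ^ (1 + t'.1 * p ^ (k - 1)) :=
      congrArg Subtype.val h
    have huu : u = u' := by
      apply Subtype.ext
      rw [← hpow u t.1, ← hpow u' t'.1, h1]
    subst huu
    have h2 := pow_eq_pow_iff_modEq.mp h1
    rw [hc1, ← hkk, mul_comm (p ^ (k - 1)) p] at h2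
    have h3 := Nat.ModEq.add_left_cancel' 1 h2
    have h4 := Nat.ModEq.mul_right_cancel' (pow_pos hp.pos (k - 1)).ne' h3
    have h5 : t.1 = t'.1 := (Nat.ModEq.eq_of_lt_of_lt h4 t.2 t'.2)
    rw [Fin.ext h5]
  have h6 := Nat.card_le_card_of_injective Φ hΦ
  rw [Nat.card_prod, Nat.card_fin] at h6
  unfold sc
  rw [mul_comm]
  exact h6

theorem sc_prime_eq (p : ℕ) [hp : Fact p.Prime] (hc : ∀ P : Sylow p G, Nat.card P = p) :
    sc G p = Nat.card (Sylow p G) * (p - 1) := by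
  rw [← Cfsg.Agent.Lib.Helper4.Sixty.ncard_orderOf_eq p hc, ← Nat.card_coe_set_eq]
  rfl

/-- Sylow counting when `p` divides the order exactly once -/
theorem exists_sylow_count {p r : ℕ} (hp : p.Prime) (hn : Nat.card G = p * r) (hr : ¬ p ∣ r) :
    ∃ n : ℕ, sc G p = n * (p - 1) ∧ n ∣ r ∧ n % p = 1 := by
  have : Fact p.Prime := ⟨hp⟩
  have hn' : Nat.card G = p ^ 1 * r := by rw [pow_one, hn]
  have hc : ∀ P : Sylow p G, Nat.card (P : Subgroup G) = p := fun P => by
    have := card_sylow_of_card_eq_pow p 1 r hn' hr P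
    rwa [pow_one] at this
  obtain ⟨P⟩ : Nonempty (Sylow p G) := inferInstance
  refine ⟨Nat.card (Sylow p G), sc_prime_eq p hc, card_sylow_dvd_of_card P (hc P) hn hp.pos, ?_⟩
  have hmod := card_sylow_modEq_one p G
  unfold Nat.ModEq at hmod
  rw [hmod]
  exact Nat.mod_eq_of_lt hp.one_lt

theorem exists_eq_pow_mul_pow_mul_pow (n : ℕ) (hn : 0 < n)
    (h : ∀ p, p.Prime → p ∣ n → p = 2 ∨ p = 3 ∨ p = 5) :
    ∃ a b c, n = 2 ^ a * 3 ^ b * 5 ^ c := by
  obtain ⟨a, n1, h1, e1⟩ := Nat.exists_eq_pow_mul_and_not_dvd hn.ne' 2 (by norm_num)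
  have hn1 : n1 ≠ 0 := by
    rintro rfl
    rw [mul_zero] at e1
    omega
  obtain ⟨b, n2, h2, e2⟩ := Nat.exists_eq_pow_mul_and_not_dvd hn1 3 (by norm_num)
  have hn2 : n2 ≠ 0 := by
    rintro rfl
    rw [mul_zero] at e2
    exact hn1 e2
  obtain ⟨c, n3, h3, e3⟩ := Nat.exists_eq_pow_mul_and_not_dvd hn2 5 (by norm_num)
  have hn3 : n3 = 1 := by
    by_contra hne
    obtain ⟨q, hq, hqd⟩ := Nat.exists_prime_and_dvd hne
    have hq2 : q ∣ n2 := by rw [e3]; exact Dvd.dvd.mul_left hqd _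
    have hq1 : q ∣ n1 := by rw [e2]; exact Dvd.dvd.mul_left hq2 _
    have hq0 : q ∣ n := by rw [e1]; exact Dvd.dvd.mul_left hq1 _
    rcases h q hq hq0 with rfl | rfl | rfl
    · exact h1 hq1
    · exact h2 hq2
    · exact h3 hqd
  refine ⟨a, b, c, ?_⟩
  rw [e1, e2, e3, hn3, mul_one, mul_assoc]

/-- unpacking `nse(G) = S`, first half -/
theorem sc_eq_zero_or_mem {S : Set ℕ}
    (h : (fun m : ℕ => Nat.card {g : G // orderOf g = m}) '' Set.range (orderOf : G → ℕ) = S)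
    (m : ℕ) : sc G m = 0 ∨ sc G m ∈ S := by
  rcases Nat.eq_zero_or_pos (sc G m) with h0 | h0
  · exact Or.inl h0
  · right
    obtain ⟨g, hg⟩ := sc_pos_iff.mp h0
    rw [← h]
    exact ⟨m, ⟨g, hg⟩, rfl⟩

/-- unpacking `nse(G) = S`, second half -/
theorem exists_sc_eq {S : Set ℕ}
    (h : (fun m : ℕ => Nat.card {g : G // orderOf g = m}) '' Set.range (orderOf : G → ℕ) = S)
    {v : ℕ} (hv : v ∈ S) : ∃ m : ℕ, sc G m = v ∧ 0 < sc G m := by
  rw [← h] at hv
  obtain ⟨m, ⟨g, hg⟩, hm⟩ := hv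
  exact ⟨m, hm, sc_pos_iff.mpr ⟨g, hg⟩⟩

theorem even_sc {m : ℕ} (hm : 2 < m) : Even (sc G m) :=
  (Nat.totient_even hm).trans_dvd (totient_dvd_sc m)

/-- an odd value other than `1` is the number of involutions -/
theorem eq_two_of_odd_sc {m v : ℕ} (hv : Odd v) (hv1 : v ≠ 1) (h : sc G m = v) : m = 2 := by
  by_contra hm
  have hcases : m = 0 ∨ m = 1 ∨ 2 < m := by omega
  rcases hcases with rfl | rfl | h3
  · rw [sc_zero] at h
    rw [← h] at hv
    exact absurd hv (by decide)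
  · rw [sc_one] at h
    exact hv1 h.symm
  · have := even_sc (G := G) h3
    rw [h] at this
    exact (Nat.not_odd_iff_even.mpr this) hv

end Cfsg.Agent.Lib.Helper5.NSE
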