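import Mathlib
import Cfsg.Agent.Lib.Helper4.M11k
import Cfsg.Agent.Lib.Helper5.NSE.Basic2

/-! Element order statistics of a simple group of order `7920` whose involution centralizers are
`GL(2,3)`: `1, 165, 440, 990, 1584, 1320, 1980, 1440` elements of orders `1,2,3,4,5,6,8,11`. -/

set_option autoImplicit false
set_option linter.unusedSectionVars false
set_option linter.unusedVariables false
set_option linter.style.longLine false
set_option linter.unusedSimpArgs false
set_option linter.unusedDecidableInType false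
set_option linter.style.haveILetI false

namespace Cfsg.Agent.Lib.Helper5.NSE.M11S

open Cfsg Cfsg.Agent.Lib.Helper5.NSE

section gl23

/-- an element of order `8` of `GL(2,3)` -/
def A8 : GL (Fin 2) (ZMod 3) := ⟨!![0,1;1,1], !![2,1;1,0], by decide, by decide⟩

/-- an element of order `6` of `GL(2,3)` -/
def B6 : GL (Fin 2) (ZMod 3) := ⟨!![2,2;0,2], !![2,1;0,2], by decide, by decide⟩

theorem A8_pow4 : A8 ^ 4 = -1 := by
  apply Units.ext
  rw [Units.val_pow_eq_pow_val]
  show (!![0,1;1,1] : Matrix (Fin 2) (Fin 2) (ZMod 3)) ^ 4 =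
    ((-1 : GL (Fin 2) (ZMod 3)) : Matrix (Fin 2) (Fin 2) (ZMod 3))
  rw [Units.val_neg, Units.val_one]
  decide

theorem B6_pow3 : B6 ^ 3 = -1 := by
  apply Units.ext
  rw [Units.val_pow_eq_pow_val]
  show (!![2,2;0,2] : Matrix (Fin 2) (Fin 2) (ZMod 3)) ^ 3 =
    ((-1 : GL (Fin 2) (ZMod 3)) : Matrix (Fin 2) (Fin 2) (ZMod 3))
  rw [Units.val_neg, Units.val_one]
  decide

theorem neg_one_ne_one : (-1 : GL (Fin 2) (ZMod 3)) ≠ 1 := by
  intro h
  have := congrArg (fun M : GL (Fin 2) (ZMod 3) => (M : Matrix (Fin 2) (Fin 2) (ZMod 3)) 0 0) h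
  simp at this
  revert this
  decide

theorem orderOf_A8 : orderOf A8 = 8 := by
  have h := orderOf_eq_prime_pow (x := A8) (p := 2) (n := 2) ?_ ?_
  · simpa using h
  · rw [show 2 ^ 2 = 4 by norm_num, A8_pow4]; exact neg_one_ne_one
  · rw [show 2 ^ (2+1) = 4 * 2 by norm_num, pow_mul, A8_pow4]; simp

theorem orderOf_B6 : orderOf B6 = 6 := by
  refine orderOf_eq_of_pow_and_pow_div_prime (by norm_num) ?_ ?_
  · rw [show 6 = 3 * 2 by norm_num, pow_mul, B6_pow3]; simp
  · intro p hp hp6
    have : p = 2 ∨ p = 3 := by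
      have h6 : p ∣ 2 * 3 := hp6
      rcases (Nat.Prime.dvd_mul hp).mp h6 with h | h
      · left; exact (Nat.prime_dvd_prime_iff_eq hp Nat.prime_two).mp h
      · right; exact (Nat.prime_dvd_prime_iff_eq hp Nat.prime_three).mp h
    rcases this with rfl | rfl
    · rw [show 6 / 2 = 3 by norm_num, B6_pow3]; exact neg_one_ne_one
    · rw [show 6 / 3 = 2 by norm_num]
      intro h
      have := congrArg (fun M : GL (Fin 2) (ZMod 3) => (M : Matrix (Fin 2) (Fin 2) (ZMod 3))) h
      simp only [Units.val_pow_eq_pow_val, Units.val_one] at this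
      revert this
      show ¬ ((!![2,2;0,2] : Matrix (Fin 2) (Fin 2) (ZMod 3)) ^ 2 = 1)
      decide

/-- a central element of `GL(2,3)` of order two is `-1` -/
theorem central_eq (M : GL (Fin 2) (ZMod 3)) (hM : ∀ N : GL (Fin 2) (ZMod 3), N * M = M * N)
    (h1 : M ≠ 1) (h2 : M ^ 2 = 1) : M = -1 := by
  have key : ∀ a b c d : ZMod 3,
      (!![1,1;0,1] : Matrix (Fin 2) (Fin 2) (ZMod 3)) * !![a,b;c,d] = !![a,b;c,d] * !![1,1;0,1] →
      (!![1,0;1,1] : Matrix (Fin 2) (Fin 2) (ZMod 3)) * !![a,b;c,d] = !![a,b;c,d] * !![1,0;1,1] →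
      (!![a,b;c,d] : Matrix (Fin 2) (Fin 2) (ZMod 3)) * !![a,b;c,d] = 1 →
      ((!![a,b;c,d] : Matrix (Fin 2) (Fin 2) (ZMod 3)) = 1 ∨
        (!![a,b;c,d] : Matrix (Fin 2) (Fin 2) (ZMod 3)) = -1) := by
    decide
  let E1 : GL (Fin 2) (ZMod 3) := ⟨!![1,1;0,1], !![1,2;0,1], by decide, by decide⟩
  let E2 : GL (Fin 2) (ZMod 3) := ⟨!![1,0;1,1], !![1,0;2,1], by decide, by decide⟩
  have e1 := congrArg (fun M : GL (Fin 2) (ZMod 3) => (M : Matrix (Fin 2) (Fin 2) (ZMod 3))) (hM E1)
  have e2 := congrArg (fun M : GL (Fin 2) (ZMod 3) => (M : Matrix (Fin 2) (Fin 2) (ZMod 3))) (hM E2)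
  have e3 := congrArg (fun M : GL (Fin 2) (ZMod 3) => (M : Matrix (Fin 2) (Fin 2) (ZMod 3))) h2
  simp only [Units.val_mul, Units.val_pow_eq_pow_val, Units.val_one, pow_two] at e1 e2 e3
  have hMv : (M : Matrix (Fin 2) (Fin 2) (ZMod 3)) =
      !![M.val 0 0, M.val 0 1; M.val 1 0, M.val 1 1] := Matrix.eta_fin_two _
  rw [hMv] at e1 e2 e3
  rcases key _ _ _ _ e1 e2 e3 with h | h
  · exfalso; apply h1; apply Units.ext; rw [hMv, h]; rfl
  · apply Units.ext; rw [hMv, h]; rfl

/-- an element of order `8` of `GL(2,3)` is not conjugate to its inverse (here: for `A8`) -/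
theorem not_conj_A8 (g : GL (Fin 2) (ZMod 3)) : g * A8 * g⁻¹ ≠ A8⁻¹ := by
  intro h
  have := congrArg (fun M : GL (Fin 2) (ZMod 3) =>
    Matrix.trace (M : Matrix (Fin 2) (Fin 2) (ZMod 3))) h
  simp only [Units.val_mul, Matrix.trace_units_conj] at this
  revert this
  show ¬ (Matrix.trace (!![0,1;1,1] : Matrix (Fin 2) (Fin 2) (ZMod 3)) =
    Matrix.trace (!![2,1;1,0] : Matrix (Fin 2) (Fin 2) (ZMod 3)))
  decide

end gl23

section generic

variable {G : Type*} [Group G] [Finite G]

/-- class size times centralizer order -/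
theorem card_class_mul (x : G) :
    Nat.card {h : G // IsConj x h} * Nat.card (Subgroup.centralizer ({x} : Set G)) = Nat.card G := by
  have h := Cfsg.Agent.Lib.Helper4.M11.card_conj_orbit (⊤ : Subgroup G) x
  rw [top_inf_eq, Subgroup.card_top] at h
  rw [← h]
  congr 1
  apply Nat.card_congr
  refine Equiv.subtypeEquivRight ?_
  intro y
  rw [isConj_iff]
  constructor
  · rintro ⟨c, hc⟩
    exact ⟨c, Subgroup.mem_top c, hc.symm⟩
  · rintro ⟨c, -, hc⟩
    exact ⟨c, hc.symm⟩

theorem orderOf_eq_of_isConj' {a b : G} (h : IsConj a b) : orderOf a = orderOf b := by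
  obtain ⟨c, rfl⟩ := isConj_iff.mp h
  have := MulEquiv.orderOf_eq (MulAut.conj c) a
  rw [MulAut.conj_apply] at this
  exact this.symm

/-- if `m` pairwise non-conjugate elements are given and there are `m` classes, then the classes
of these elements partition the group -/
theorem class_partition {m : ℕ} (rep : Fin m → G)
    (hinj : ∀ i j, IsConj (rep i) (rep j) → i = j) (hk : Nat.card (ConjClasses G) = m) :
    (∀ n, sc G n = ∑ i, if orderOf (rep i) = n then Nat.card {h : G // IsConj (rep i) h} else 0) ∧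
      Nat.card G = ∑ i, Nat.card {h : G // IsConj (rep i) h} := by
  classical
  letI : Fintype G := Fintype.ofFinite G
  have hbij : Function.Bijective (fun i => ConjClasses.mk (rep i)) := by
    rw [Nat.bijective_iff_injective_and_card]
    refine ⟨fun i j h => hinj i j (ConjClasses.mk_eq_mk_iff_isConj.mp h), ?_⟩
    rw [hk]; simp
  have hsurj : ∀ h : G, ∃ i, IsConj (rep i) h := fun h => by
    obtain ⟨i, hi⟩ := hbij.2 (ConjClasses.mk h)
    exact ⟨i, ConjClasses.mk_eq_mk_iff_isConj.mp hi⟩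
  choose c hc using hsurj
  have hcu : ∀ h i, IsConj (rep i) h → c h = i := fun h i hi =>
    hinj _ _ ((hc h).trans hi.symm)
  have hcard : ∀ i, Nat.card {h : G // IsConj (rep i) h} =
      (Finset.univ.filter (fun h : G => c h = i)).card := by
    intro i
    rw [Nat.card_eq_fintype_card, Fintype.card_subtype]
    congr 1
    ext h
    simp only [Finset.mem_filter, Finset.mem_univ, true_and]
    constructor
    · intro hh; exact hcu h i hh
    · rintro rfl; exact hc h
  refine ⟨fun n => ?_, ?_⟩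
  · rw [sc_eq_card_filter,
      Finset.card_eq_sum_card_fiberwise (f := c) (t := Finset.univ) (fun _ _ => Finset.mem_univ _)]
    apply Finset.sum_congr rfl
    intro i _
    split_ifs with hi
    · rw [hcard]
      congr 1
      ext h
      simp only [Finset.mem_filter, Finset.mem_univ, true_and]
      constructor
      · rintro ⟨_, h2⟩; exact h2
      · rintro rfl
        exact ⟨by rw [← hi]; exact (orderOf_eq_of_isConj' (hc h)).symm, rfl⟩
    · rw [Finset.card_eq_zero, Finset.filter_eq_empty_iff]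
      intro h hh
      simp only [Finset.mem_filter, Finset.mem_univ, true_and] at hh
      rintro rfl
      exact hi (by rw [← hh]; exact orderOf_eq_of_isConj' (hc h))
  · rw [Nat.card_eq_fintype_card, ← Finset.card_univ,
      Finset.card_eq_sum_card_fiberwise (f := c) (t := Finset.univ) (fun _ _ => Finset.mem_univ _)]
    apply Finset.sum_congr rfl
    intro i _
    rw [hcard]

theorem orderOf_dvd_card_centralizer {w g : G} (h : w * g = g * w) :
    orderOf w ∣ Nat.card (Subgroup.centralizer ({g} : Set G)) := by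
  have hw : w ∈ Subgroup.centralizer ({g} : Set G) :=
    Subgroup.mem_centralizer_singleton_iff.mpr h
  have := orderOf_dvd_natCard (⟨w, hw⟩ : ↥(Subgroup.centralizer ({g} : Set G)))
  rwa [Subgroup.orderOf_mk] at this

theorem le_of_mul_eq {z c d N : ℕ} (h : z * c = d * N) (hd : d ∣ c) (hd0 : 0 < d) (hN : 0 < N) :
    z ≤ N := by
  obtain ⟨k, rfl⟩ := hd
  have h2 : d * (z * k) = d * N := by rw [← h]; ring
  have h3 : z * k = N := Nat.eq_of_mul_eq_mul_left hd0 h2
  have hk : 0 < k := by
    rcases Nat.eq_zero_or_pos k with rfl | hk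
    · simp at h3; omega
    · exact hk
  calc z = z * 1 := (mul_one z).symm
    _ ≤ z * k := Nat.mul_le_mul_left z hk
    _ = N := h3

end generic

/-- the statistics function -/
def statFn (n : ℕ) : ℕ :=
  ∑ i : Fin 10, if (![1, 2, 3, 4, 5, 6, 8, 8, 11, 11] : Fin 10 → ℕ) i = n then
    (![1, 165, 440, 990, 1584, 1320, 990, 990, 720, 720] : Fin 10 → ℕ) i else 0

theorem statFn_eq_zero (n : ℕ) (h1 : n ≠ 1) (h2 : n ≠ 2) (h3 : n ≠ 3) (h4 : n ≠ 4) (h5 : n ≠ 5)
    (h6 : n ≠ 6) (h8 : n ≠ 8) (h11 : n ≠ 11) : statFn n = 0 := by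
  unfold statFn
  apply Finset.sum_eq_zero
  intro i _
  rw [if_neg]
  fin_cases i <;> simp <;> omega

section main

variable {H : Type*} [Group H] [Fintype H] [IsSimpleGroup H]
  [Fintype (Cfsg.IrrCharacter H)] [DecidableEq (Cfsg.IrrCharacter H)]

omit [IsSimpleGroup H] [Fintype (Cfsg.IrrCharacter H)] [DecidableEq (Cfsg.IrrCharacter H)] in
/-- special elements: an involution `t`, `x` of order `8` with `x ^ 4 = t` not conjugate to its
inverse, and `u` of order `6` -/
theorem exists_special (hH : Nat.card H = 7920)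
    (hC : ∀ x : H, orderOf x = 2 →
      Nonempty (↥(Subgroup.centralizer ({x} : Set H)) ≃* GL (Fin 2) (ZMod 3))) :
    ∃ t x u : H, orderOf t = 2 ∧ orderOf x = 8 ∧ orderOf u = 6 ∧ ¬ IsConj x x⁻¹ := by
  haveI : Fact (Nat.Prime 2) := ⟨Nat.prime_two⟩
  obtain ⟨t, ht⟩ := exists_prime_orderOf_dvd_card' (G := H) 2 (by rw [hH]; norm_num)
  obtain ⟨φ⟩ := hC t ht
  have htC : t ∈ Subgroup.centralizer ({t} : Set H) :=
    Subgroup.mem_centralizer_singleton_iff.mpr rfl
  have ht2 : t ^ 2 = 1 := by rw [← ht]; exact pow_orderOf_eq_one t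
  have ht1 : t ≠ 1 := by
    intro h; rw [h, orderOf_one] at ht; omega
  have hcent : ∀ N : GL (Fin 2) (ZMod 3), N * φ ⟨t, htC⟩ = φ ⟨t, htC⟩ * N := by
    intro N
    obtain ⟨c, rfl⟩ := φ.surjective N
    rw [← map_mul, ← map_mul]
    congr 1
    apply Subtype.ext
    have := Subgroup.mem_centralizer_singleton_iff.mp c.2
    simpa using this
  have hφt : φ ⟨t, htC⟩ = -1 := by
    apply central_eq _ hcent
    · intro h
      have h2 : (⟨t, htC⟩ : ↥(Subgroup.centralizer ({t} : Set H))) = 1 := by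
        apply φ.injective; rw [h, map_one]
      exact ht1 (congrArg Subtype.val h2)
    · rw [← map_pow]
      have : (⟨t, htC⟩ : ↥(Subgroup.centralizer ({t} : Set H))) ^ 2 = 1 := by
        apply Subtype.ext; simpa using ht2
      rw [this, map_one]
  have hx8 : orderOf ((φ.symm A8 : ↥(Subgroup.centralizer ({t} : Set H))) : H) = 8 := by
    rw [Subgroup.orderOf_coe, MulEquiv.orderOf_eq, orderOf_A8]
  have hu6 : orderOf ((φ.symm B6 : ↥(Subgroup.centralizer ({t} : Set H))) : H) = 6 := by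
    rw [Subgroup.orderOf_coe, MulEquiv.orderOf_eq, orderOf_B6]
  have hx4 : ((φ.symm A8 : ↥(Subgroup.centralizer ({t} : Set H))) : H) ^ 4 = t := by
    have h1 : (φ.symm A8) ^ 4 = (⟨t, htC⟩ : ↥(Subgroup.centralizer ({t} : Set H))) := by
      rw [← map_pow, A8_pow4, ← hφt, MulEquiv.symm_apply_apply]
    have := congrArg Subtype.val h1
    simpa using this
  refine ⟨t, ((φ.symm A8 : ↥(Subgroup.centralizer ({t} : Set H))) : H),
    ((φ.symm B6 : ↥(Subgroup.centralizer ({t} : Set H))) : H), ht, hx8, hu6, ?_⟩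
  intro hconj
  obtain ⟨g, hg⟩ := isConj_iff.mp hconj
  set x : H := ((φ.symm A8 : ↥(Subgroup.centralizer ({t} : Set H))) : H) with hxdef
  have hgt : g * t * g⁻¹ = t := by
    rw [← hx4, ← conj_pow, hg, inv_pow, hx4]
    exact inv_eq_of_mul_eq_one_left (by rw [← pow_two]; exact ht2)
  have hgC : g ∈ Subgroup.centralizer ({t} : Set H) := by
    rw [Subgroup.mem_centralizer_singleton_iff]
    calc g * t = g * t * g⁻¹ * g := by group
      _ = t * g := by rw [hgt]
  have h3 : (⟨g, hgC⟩ : ↥(Subgroup.centralizer ({t} : Set H))) * φ.symm A8 *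
      (⟨g, hgC⟩ : ↥(Subgroup.centralizer ({t} : Set H)))⁻¹ = (φ.symm A8)⁻¹ := by
    apply Subtype.ext
    simpa using hg
  have h4 := congrArg φ h3
  rw [map_mul, map_mul, map_inv, map_inv, MulEquiv.apply_symm_apply] at h4
  exact not_conj_A8 _ h4

/-- the element order statistics -/
theorem stats (hH : Nat.card H = 7920)
    (hC : ∀ x : H, orderOf x = 2 →
      Nonempty (↥(Subgroup.centralizer ({x} : Set H)) ≃* GL (Fin 2) (ZMod 3))) :
    sc H 1 = 1 ∧ sc H 2 = 165 ∧ sc H 3 = 440 ∧ sc H 4 = 990 ∧ sc H 5 = 1584 ∧ sc H 6 = 1320 ∧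
      sc H 8 = 1980 ∧ sc H 11 = 1440 ∧
      ∀ n : ℕ, n ≠ 1 → n ≠ 2 → n ≠ 3 → n ≠ 4 → n ≠ 5 → n ≠ 6 → n ≠ 8 → n ≠ 11 → sc H n = 0 := by
  obtain ⟨t, x, u, ht, hx, hu, hxx⟩ := exists_special hH hC
  haveI : Fact (Nat.Prime 5) := ⟨by norm_num⟩
  haveI : Fact (Nat.Prime 11) := ⟨by norm_num⟩
  obtain ⟨f, hf⟩ := exists_prime_orderOf_dvd_card' (G := H) 5 (by rw [hH]; norm_num)
  obtain ⟨y, hy⟩ := exists_prime_orderOf_dvd_card' (G := H) 11 (by rw [hH]; norm_num)
  have hyy : ¬ IsConj y y⁻¹ := Cfsg.Agent.Lib.Helper4.M11.not_isConj_inv_order11 hH hy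
  let rep : Fin 10 → H := ![1, t, u ^ 2, x ^ 2, f, u, x, x⁻¹, y, y⁻¹]
  let ord : Fin 10 → ℕ := ![1, 2, 3, 4, 5, 6, 8, 8, 11, 11]
  have hu2 : orderOf (u ^ 2) = 3 := by rw [orderOf_pow, hu]; rfl
  have hx2 : orderOf (x ^ 2) = 4 := by rw [orderOf_pow, hx]; rfl
  have hord : ∀ i, orderOf (rep i) = ord i := by
    intro i
    fin_cases i
    · exact orderOf_one
    · exact ht
    · exact hu2
    · exact hx2
    · exact hf
    · exact hu
    · exact hx
    · exact (orderOf_inv x).trans hx
    · exact hy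
    · exact (orderOf_inv y).trans hy
  have hkey : ∀ i j : Fin 10, ord i = ord j →
      i = j ∨ (i = 6 ∧ j = 7) ∨ (i = 7 ∧ j = 6) ∨ (i = 8 ∧ j = 9) ∨ (i = 9 ∧ j = 8) := by
    decide
  have hinj : ∀ i j, IsConj (rep i) (rep j) → i = j := by
    intro i j hij
    have h1 := orderOf_eq_of_isConj' hij
    rw [hord, hord] at h1
    rcases hkey i j h1 with h | ⟨rfl, rfl⟩ | ⟨rfl, rfl⟩ | ⟨rfl, rfl⟩ | ⟨rfl, rfl⟩
    · exact h
    · exact absurd hij hxx
    · exact absurd hij.symm hxx
    · exact absurd hij hyy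
    · exact absurd hij.symm hyy
  obtain ⟨hsc, htot⟩ := class_partition rep hinj
    (Cfsg.Agent.Lib.Helper4.M11.card_conjClasses hH)
  -- the class sizes
  have hz : ∀ i, Nat.card {h : H // IsConj (rep i) h} *
      Nat.card (Subgroup.centralizer ({rep i} : Set H)) = 7920 := by
    intro i; rw [card_class_mul, hH]
  have hz0 : Nat.card {h : H // IsConj (rep 0) h} = 1 := by
    have h1 : Nat.card (Subgroup.centralizer ({rep 0} : Set H)) = 7920 := by
      have : Subgroup.centralizer ({rep 0} : Set H) = ⊤ := by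
        rw [Subgroup.eq_top_iff']
        intro g
        rw [Subgroup.mem_centralizer_singleton_iff]
        show g * 1 = 1 * g
        rw [mul_one, one_mul]
      rw [this, Subgroup.card_top, hH]
    have := hz 0
    rw [h1] at this
    omega
  have hz1 : Nat.card {h : H // IsConj (rep 1) h} = 165 := by
    have h1 : Nat.card (Subgroup.centralizer ({rep 1} : Set H)) = 48 :=
      Cfsg.Agent.Lib.Helper4.M11.card_centralizer_involution hH t ht
    have := hz 1
    rw [h1] at this
    omega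
  have hz4 : Nat.card {h : H // IsConj (rep 4) h} = 1584 := by
    have h1 : Nat.card (Subgroup.centralizer ({rep 4} : Set H)) = 5 :=
      Cfsg.Agent.Lib.Helper4.M11.card_centralizer_order5 hH hf
    have := hz 4
    rw [h1] at this
    omega
  have hz8 : Nat.card {h : H // IsConj (rep 8) h} = 720 := by
    have h1 : Nat.card (Subgroup.centralizer ({rep 8} : Set H)) = 11 :=
      Cfsg.Agent.Lib.Helper4.M11.card_centralizer_order11 hH hy
    have := hz 8
    rw [h1] at this
    omega
  have hz9 : Nat.card {h : H // IsConj (rep 9) h} = 720 := by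
    have h1 : Nat.card (Subgroup.centralizer ({rep 9} : Set H)) = 11 :=
      Cfsg.Agent.Lib.Helper4.M11.card_centralizer_order11 hH ((orderOf_inv y).trans hy)
    have := hz 9
    rw [h1] at this
    omega
  -- divisibility of the other centralizer orders
  have hd6 : 8 ∣ Nat.card (Subgroup.centralizer ({rep 6} : Set H)) := by
    have := orderOf_dvd_card_centralizer (w := x) (g := x) rfl
    rwa [hx] at this
  have hd7 : 8 ∣ Nat.card (Subgroup.centralizer ({rep 7} : Set H)) := by
    have := orderOf_dvd_card_centralizer (w := x) (g := x⁻¹) (by group)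
    rwa [hx] at this
  have hd3 : 8 ∣ Nat.card (Subgroup.centralizer ({rep 3} : Set H)) := by
    have := orderOf_dvd_card_centralizer (w := x) (g := x ^ 2) (by group)
    rwa [hx] at this
  have hd5 : 6 ∣ Nat.card (Subgroup.centralizer ({rep 5} : Set H)) := by
    have := orderOf_dvd_card_centralizer (w := u) (g := u) rfl
    rwa [hu] at this
  have hd2 : 18 ∣ Nat.card (Subgroup.centralizer ({rep 2} : Set H)) := by
    have h6 : 6 ∣ Nat.card (Subgroup.centralizer ({u ^ 2} : Set H)) := by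
      have := orderOf_dvd_card_centralizer (w := u) (g := u ^ 2) (by group)
      rwa [hu] at this
    have h9 : 9 ∣ Nat.card (Subgroup.centralizer ({u ^ 2} : Set H)) := by
      haveI : Fact (Nat.Prime 3) := ⟨Nat.prime_three⟩
      have hp : IsPGroup 3 (Subgroup.zpowers (u ^ 2)) := by
        apply IsPGroup.of_card (n := 1)
        rw [Nat.card_zpowers, hu2]; rfl
      obtain ⟨Q, hQ⟩ := hp.exists_le_sylow
      have hQ9 : Nat.card Q = 9 := Cfsg.Agent.Lib.Helper4.M11.card9 hH Q
      have hcomm := Cfsg.Agent.Lib.Helper4.M11.sylow3_comm Q hQ9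
      have hle : (Q : Subgroup H) ≤ Subgroup.centralizer ({u ^ 2} : Set H) := by
        intro q hq
        rw [Subgroup.mem_centralizer_singleton_iff]
        exact hcomm q hq (u ^ 2) (hQ (Subgroup.mem_zpowers _))
      have := Subgroup.card_dvd_of_le hle
      rwa [hQ9] at this
    show 18 ∣ Nat.card (Subgroup.centralizer ({u ^ 2} : Set H))
    omega
  have hb2 : Nat.card {h : H // IsConj (rep 2) h} ≤ 440 :=
    le_of_mul_eq (d := 18) (hz 2) hd2 (by norm_num) (by norm_num)
  have hb3 : Nat.card {h : H // IsConj (rep 3) h} ≤ 990 :=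
    le_of_mul_eq (d := 8) (hz 3) hd3 (by norm_num) (by norm_num)
  have hb5 : Nat.card {h : H // IsConj (rep 5) h} ≤ 1320 :=
    le_of_mul_eq (d := 6) (hz 5) hd5 (by norm_num) (by norm_num)
  have hb6 : Nat.card {h : H // IsConj (rep 6) h} ≤ 990 :=
    le_of_mul_eq (d := 8) (hz 6) hd6 (by norm_num) (by norm_num)
  have hb7 : Nat.card {h : H // IsConj (rep 7) h} ≤ 990 :=
    le_of_mul_eq (d := 8) (hz 7) hd7 (by norm_num) (by norm_num)
  rw [hH] at htot
  simp only [Fin.sum_univ_succ, Fin.sum_univ_zero] at htot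
  have hsc' : ∀ n, sc H n = ∑ i, if ord i = n then Nat.card {h : H // IsConj (rep i) h} else 0 := by
    intro n; rw [hsc]; simp only [hord]
  have htot' : 7920 = Nat.card {h : H // IsConj (rep 0) h} + (Nat.card {h : H // IsConj (rep 1) h} +
      (Nat.card {h : H // IsConj (rep 2) h} + (Nat.card {h : H // IsConj (rep 3) h} +
      (Nat.card {h : H // IsConj (rep 4) h} + (Nat.card {h : H // IsConj (rep 5) h} +
      (Nat.card {h : H // IsConj (rep 6) h} + (Nat.card {h : H // IsConj (rep 7) h} +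
      (Nat.card {h : H // IsConj (rep 8) h} + (Nat.card {h : H // IsConj (rep 9) h} + 0))))))))) :=
    htot
  let zz : Fin 10 → ℕ := ![1, 165, 440, 990, 1584, 1320, 990, 990, 720, 720]
  have hzz : ∀ i, Nat.card {h : H // IsConj (rep i) h} = zz i := by
    intro i
    fin_cases i
    · exact hz0
    · exact hz1
    · show Nat.card {h : H // IsConj (rep 2) h} = 440
      omega
    · show Nat.card {h : H // IsConj (rep 3) h} = 990
      omega
    · exact hz4
    · show Nat.card {h : H // IsConj (rep 5) h} = 1320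
      omega
    · show Nat.card {h : H // IsConj (rep 6) h} = 990
      omega
    · show Nat.card {h : H // IsConj (rep 7) h} = 990
      omega
    · exact hz8
    · exact hz9
  have hfin : ∀ n, sc H n = statFn n := by
    intro n; rw [hsc' n]; simp only [hzz]; rfl
  refine ⟨?_, ?_, ?_, ?_, ?_, ?_, ?_, ?_, ?_⟩
  · rw [hfin]; decide
  · rw [hfin]; decide
  · rw [hfin]; decide
  · rw [hfin]; decide
  · rw [hfin]; decide
  · rw [hfin]; decide
  · rw [hfin]; decide
  · rw [hfin]; decide
  · intro n h1 h2 h3 h4 h5 h6 h8 h11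
    rw [hfin]
    exact statFn_eq_zero n h1 h2 h3 h4 h5 h6 h8 h11

end main

end Cfsg.Agent.Lib.Helper5.NSE.M11S
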