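import Mathlib
import Cfsg.Agent.Lib.Helper5.NSE.M11Stats
import Cfsg.Agent.Lib.Helper2.M11Fus4
import Cfsg.Agent.Lib.Helper9.M24Q4
import Cfsg.Agent.Lib.Helper9.M24P6

/-! The element order statistics of the concrete Mathieu group `M₁₁`. -/

set_option autoImplicit false
set_option linter.unusedSectionVars false
set_option linter.unusedVariables false
set_option linter.style.longLine false
set_option linter.unusedSimpArgs false
set_option linter.unusedDecidableInType false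
set_option linter.style.haveILetI false

namespace Cfsg.Agent.Lib.Helper5.NSE.M11S

open Cfsg Cfsg.Agent.Lib.Helper5.NSE

theorem isSimpleGroup_M11 : IsSimpleGroup ↥Cfsg.Spor.M11 :=
  Cfsg.Agent.Lib.Helper9.M24Q4.m11_simple _ Cfsg.Agent.Lib.Helper9.M24P6.sq_mem _
    Cfsg.Agent.Lib.Helper9.M24P6.zero_mem_sq

theorem finite_M11' : Finite ↥Cfsg.Spor.M11 :=
  Nat.finite_of_card_ne_zero (by rw [Cfsg.Agent.Lib.Helper9.M24P6.card_M11]; norm_num)

/-- the element order statistics of `M₁₁` -/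
theorem stats_M11 :
    sc ↥Cfsg.Spor.M11 1 = 1 ∧ sc ↥Cfsg.Spor.M11 2 = 165 ∧ sc ↥Cfsg.Spor.M11 3 = 440 ∧
      sc ↥Cfsg.Spor.M11 4 = 990 ∧ sc ↥Cfsg.Spor.M11 5 = 1584 ∧ sc ↥Cfsg.Spor.M11 6 = 1320 ∧
      sc ↥Cfsg.Spor.M11 8 = 1980 ∧ sc ↥Cfsg.Spor.M11 11 = 1440 ∧
      ∀ n : ℕ, n ≠ 1 → n ≠ 2 → n ≠ 3 → n ≠ 4 → n ≠ 5 → n ≠ 6 → n ≠ 8 → n ≠ 11 →
        sc ↥Cfsg.Spor.M11 n = 0 := by
  classical
  haveI := finite_M11'
  haveI := isSimpleGroup_M11
  letI : Fintype ↥Cfsg.Spor.M11 := Fintype.ofFinite _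
  letI : Fintype (Cfsg.IrrCharacter ↥Cfsg.Spor.M11) := Fintype.ofFinite _
  exact stats Cfsg.Agent.Lib.Helper9.M24P6.card_M11 Cfsg.Agent.Lib.Helper2.M11Fus.m11_hC

/-- `nse(M₁₁)` -/
theorem nse_M11 :
    {c : ℕ | 0 < c ∧ ∃ n : ℕ, c = Nat.card {g : ↥Cfsg.Spor.M11 // orderOf g = n}} =
      {1, 165, 440, 990, 1584, 1320, 1980, 1440} := by
  obtain ⟨h1, h2, h3, h4, h5, h6, h8, h11, h0⟩ := stats_M11
  unfold sc at h1 h2 h3 h4 h5 h6 h8 h11 h0
  ext c
  simp only [Set.mem_ofPred_eq, Set.mem_insert_iff, Set.mem_singleton_iff]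
  constructor
  · rintro ⟨hc, n, rfl⟩
    by_cases e1 : n = 1
    · subst e1; omega
    by_cases e2 : n = 2
    · subst e2; omega
    by_cases e3 : n = 3
    · subst e3; omega
    by_cases e4 : n = 4
    · subst e4; omega
    by_cases e5 : n = 5
    · subst e5; omega
    by_cases e6 : n = 6
    · subst e6; omega
    by_cases e8 : n = 8
    · subst e8; omega
    by_cases e11 : n = 11
    · subst e11; omega
    have := h0 n e1 e2 e3 e4 e5 e6 e8 e11
    omega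
  · rintro (rfl | rfl | rfl | rfl | rfl | rfl | rfl | rfl)
    · exact ⟨by norm_num, 1, h1.symm⟩
    · exact ⟨by norm_num, 2, h2.symm⟩
    · exact ⟨by norm_num, 3, h3.symm⟩
    · exact ⟨by norm_num, 4, h4.symm⟩
    · exact ⟨by norm_num, 5, h5.symm⟩
    · exact ⟨by norm_num, 6, h6.symm⟩
    · exact ⟨by norm_num, 8, h8.symm⟩
    · exact ⟨by norm_num, 11, h11.symm⟩

end Cfsg.Agent.Lib.Helper5.NSE.M11S
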