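import Mathlib
import Cfsg.Agent.Lib.Helper5.NSE.M11Nse

/-! Centralizer orders in `M₁₁`: the elements with centralizer of order `11` (resp. `5`) are the
`1440` (resp. `1584`) elements of order `11` (resp. `5`); no centralizer order of a nonidentity
element is divisible by `10`. -/

set_option autoImplicit false
set_option linter.unusedSectionVars false
set_option linter.unusedVariables false
set_option linter.style.longLine false
set_option linter.unusedSimpArgs false
set_option linter.unusedDecidableInType false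
set_option linter.style.haveILetI false

namespace Cfsg.Agent.Lib.Helper5.NSE.M11S

open Cfsg Cfsg.Agent.Lib.Helper5.NSE

section abstract

variable {H : Type*} [Group H] [Fintype H] [IsSimpleGroup H]
  [Fintype (Cfsg.IrrCharacter H)] [DecidableEq (Cfsg.IrrCharacter H)]

omit [IsSimpleGroup H] [Fintype (Cfsg.IrrCharacter H)] [DecidableEq (Cfsg.IrrCharacter H)] in
theorem orderOf_eq_of_card_centralizer_prime (hH : Nat.card H = 7920) {p : ℕ} (hp : p.Prime)
    (hp' : p ≠ 7920) {g : H} (h : Nat.card (Subgroup.centralizer ({g} : Set H)) = p) :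
    orderOf g = p := by
  have h1 : orderOf g ∣ p := by
    have := orderOf_dvd_card_centralizer (w := g) (g := g) rfl
    rwa [h] at this
  rcases (Nat.dvd_prime hp).mp h1 with h2 | h2
  · exfalso
    rw [orderOf_eq_one_iff] at h2
    subst h2
    have : Subgroup.centralizer ({(1 : H)} : Set H) = ⊤ := by
      rw [Subgroup.eq_top_iff']
      intro x
      rw [Subgroup.mem_centralizer_singleton_iff, mul_one, one_mul]
    rw [this, Subgroup.card_top, hH] at h
    exact hp' h.symm
  · exact h2

theorem card_centralizer_eq_eleven_iff (hH : Nat.card H = 7920) {g : H} :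
    Nat.card (Subgroup.centralizer ({g} : Set H)) = 11 ↔ orderOf g = 11 :=
  ⟨fun h => orderOf_eq_of_card_centralizer_prime hH (by norm_num) (by norm_num) h,
    fun h => Cfsg.Agent.Lib.Helper4.M11.card_centralizer_order11 hH h⟩

theorem card_centralizer_eq_five_iff (hH : Nat.card H = 7920) {g : H} :
    Nat.card (Subgroup.centralizer ({g} : Set H)) = 5 ↔ orderOf g = 5 :=
  ⟨fun h => orderOf_eq_of_card_centralizer_prime hH (by norm_num) (by norm_num) h,
    fun h => Cfsg.Agent.Lib.Helper4.M11.card_centralizer_order5 hH h⟩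

theorem not_ten_dvd_card_centralizer (hH : Nat.card H = 7920) {g : H} (hg : g ≠ 1) :
    ¬ 10 ∣ Nat.card (Subgroup.centralizer ({g} : Set H)) := by
  intro h10
  haveI : Fact (Nat.Prime 5) := ⟨by norm_num⟩
  have h5 : 5 ∣ Nat.card (Subgroup.centralizer ({g} : Set H)) := (by norm_num : 5 ∣ 10).trans h10
  obtain ⟨x, hx⟩ := exists_prime_orderOf_dvd_card' (G := ↥(Subgroup.centralizer ({g} : Set H))) 5 h5
  have hxo : orderOf (x : H) = 5 := by rw [Subgroup.orderOf_coe]; exact hx
  have hcomm : (x : H) * g = g * (x : H) := Subgroup.mem_centralizer_singleton_iff.mp x.2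
  have hd := Cfsg.Agent.Lib.Helper4.M11.orderOf_dvd_of_commute hH 5 (Or.inl rfl) hxo hcomm.symm
  rcases (Nat.dvd_prime (by norm_num : Nat.Prime 5)).mp hd with h | h
  · exact hg (orderOf_eq_one_iff.mp h)
  · rw [(card_centralizer_eq_five_iff hH).mpr h] at h10
    omega

end abstract

/-- in `M₁₁` exactly `1440` elements have a centralizer of order `11` -/
theorem card_centralizer_eleven_M11 :
    Nat.card {g : ↥Cfsg.Spor.M11 // Nat.card (Subgroup.centralizer ({g} : Set ↥Cfsg.Spor.M11)) = 11}
      = 1440 := by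
  classical
  haveI := finite_M11'
  haveI := isSimpleGroup_M11
  letI : Fintype ↥Cfsg.Spor.M11 := Fintype.ofFinite _
  letI : Fintype (Cfsg.IrrCharacter ↥Cfsg.Spor.M11) := Fintype.ofFinite _
  have h := stats_M11.2.2.2.2.2.2.2.1
  unfold sc at h
  rw [← h]
  apply Nat.card_congr
  exact Equiv.subtypeEquivRight
    (fun g => card_centralizer_eq_eleven_iff Cfsg.Agent.Lib.Helper9.M24P6.card_M11)

/-- in `M₁₁` exactly `1584` elements have a centralizer of order `5` -/
theorem card_centralizer_five_M11 :
    Nat.card {g : ↥Cfsg.Spor.M11 // Nat.card (Subgroup.centralizer ({g} : Set ↥Cfsg.Spor.M11)) = 5}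
      = 1584 := by
  classical
  haveI := finite_M11'
  haveI := isSimpleGroup_M11
  letI : Fintype ↥Cfsg.Spor.M11 := Fintype.ofFinite _
  letI : Fintype (Cfsg.IrrCharacter ↥Cfsg.Spor.M11) := Fintype.ofFinite _
  have h := stats_M11.2.2.2.2.1
  unfold sc at h
  rw [← h]
  apply Nat.card_congr
  exact Equiv.subtypeEquivRight
    (fun g => card_centralizer_eq_five_iff Cfsg.Agent.Lib.Helper9.M24P6.card_M11)

/-- in `M₁₁` no centralizer of a nonidentity element has order divisible by `10` -/
theorem not_ten_dvd_card_centralizer_M11 {g : ↥Cfsg.Spor.M11} (hg : g ≠ 1) :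
    ¬ 10 ∣ Nat.card (Subgroup.centralizer ({g} : Set ↥Cfsg.Spor.M11)) := by
  classical
  haveI := finite_M11'
  haveI := isSimpleGroup_M11
  letI : Fintype ↥Cfsg.Spor.M11 := Fintype.ofFinite _
  letI : Fintype (Cfsg.IrrCharacter ↥Cfsg.Spor.M11) := Fintype.ofFinite _
  exact not_ten_dvd_card_centralizer Cfsg.Agent.Lib.Helper9.M24P6.card_M11 hg

end Cfsg.Agent.Lib.Helper5.NSE.M11S
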