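import Mathlib
import Cfsg.Agent.Lib.Helper5.NSE.Basic2
import Cfsg.Agent.Lib.Helper5.Ord.Tools
import Cfsg.Agent.Lib.Lead.SylowCount

/-! A group of order `7920` with `144` Sylow `11`-subgroups and `396` Sylow `5`-subgroups whose
element counts are at most `1980` is simple. -/

set_option autoImplicit false
set_option linter.unusedSectionVars false
set_option linter.unusedVariables false
set_option linter.style.longLine false
set_option linter.unusedSimpArgs false
set_option linter.unusedDecidableInType false
set_option linter.style.haveILetI false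

namespace Cfsg.Agent.Lib.Helper5.NSE.M11R

open Cfsg.Agent.Lib.Helper5.NSE Cfsg.Agent.Lib.Helper5.Ord
open scoped Pointwise

section small

variable {X : Type*} [Group X] [Finite X]

/-- Frattini index lemma -/
theorem index_dvd_card_normalizer {p : ℕ} [Fact p.Prime] (N : Subgroup X) [N.Normal]
    (P : Sylow p X) (hP : (P : Subgroup X) ≤ N) :
    N.index ∣ Nat.card (Subgroup.normalizer ((P : Subgroup X) : Set X)) := by
  have h := Sylow.normalizer_sup_eq_top' P hP
  rw [← Subgroup.relIndex_top_right, ← h, Subgroup.relIndex_sup_right]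
  exact Subgroup.relIndex_dvd_card _ _

/-- a normal subgroup whose order is divisible by `p` contains the Sylow `p`-subgroups of order `p` -/
theorem sylow_le_of_dvd_card {p : ℕ} [Fact p.Prime] (N : Subgroup X) [N.Normal]
    (hc : ∀ P : Sylow p X, Nat.card P = p) (hN : p ∣ Nat.card N) (P : Sylow p X) :
    (P : Subgroup X) ≤ N := by
  obtain ⟨x, hx⟩ := exists_prime_orderOf_dvd_card' (G := N) p hN
  have hxo : orderOf (x : X) = p := by rw [Subgroup.orderOf_coe]; exact hx
  have hp : IsPGroup p (Subgroup.zpowers (x : X)) :=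
    IsPGroup.of_card (n := 1) (by rw [Nat.card_zpowers, hxo, pow_one])
  obtain ⟨P₀, hP₀⟩ := hp.exists_le_sylow
  have heq : Subgroup.zpowers (x : X) = P₀ :=
    Subgroup.eq_of_le_of_card_ge hP₀ (by rw [hc P₀, Nat.card_zpowers, hxo])
  have hP₀N : (P₀ : Subgroup X) ≤ N := by
    rw [← heq]; exact (Subgroup.zpowers_le).mpr x.2
  obtain ⟨g, rfl⟩ := MulAction.exists_smul_eq X P₀ P
  intro y hy
  rw [Sylow.smul_def, Sylow.pointwise_smul_def, mem_conj_smul_iff] at hy
  have h1 := hP₀N hy
  have h2 := (inferInstance : N.Normal).conj_mem _ h1 g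
  have h3 : g * (g⁻¹ * y * g) * g⁻¹ = y := by group
  rwa [h3] at h2

/-- key lemma: a nontrivial normal subgroup of order dividing `144` cannot coexist with a Sylow
`11`-subgroup of order `11` whose normalizer has order prime to `6` -/
theorem no_small_normal (K : Subgroup X) [K.Normal] (hK1 : K ≠ ⊥) (hK : Nat.card K ∣ 144)
    (P : Sylow 11 X) (hP : Nat.card P = 11)
    (hN2 : ¬ 2 ∣ Nat.card (Subgroup.normalizer ((P : Subgroup X) : Set X)))
    (hN3 : ¬ 3 ∣ Nat.card (Subgroup.normalizer ((P : Subgroup X) : Set X))) : False := by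
  classical
  haveI : Fact (Nat.Prime 11) := ⟨by norm_num⟩
  haveI : Fact (Nat.Prime 3) := ⟨by norm_num⟩
  letI : MulDistribMulAction ↥(P : Subgroup X) ↥K :=
    MulDistribMulAction.compHom ↥K ((MulAut.conjNormal (H := K)).comp (P : Subgroup X).subtype)
  have hsmul : ∀ (p : ↥(P : Subgroup X)) (k : ↥K), ((p • k : ↥K) : X) = (p : X) * k * (p : X)⁻¹ :=
    fun p k => rfl
  have hPp : IsPGroup 11 ↥(P : Subgroup X) := P.2
  -- fixed points are trivial
  have hfix : ∀ k : ↥K, k ∈ MulAction.fixedPoints ↥(P : Subgroup X) ↥K → k = 1 := by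
    intro k hk
    have hkN : (k : X) ∈ Subgroup.normalizer ((P : Subgroup X) : Set X) := by
      apply Subgroup.centralizer_le_normalizer
      rw [Subgroup.mem_centralizer_iff]
      intro p hp
      have := hk ⟨p, hp⟩
      have h2 : p * (k : X) * p⁻¹ = (k : X) := by
        have h2 := congrArg Subtype.val this
        rw [hsmul] at h2
        exact h2
      calc p * (k : X) = p * (k : X) * p⁻¹ * p := by group
        _ = (k : X) * p := by rw [h2]
    have h1 : orderOf (k : X) ∣ Nat.card (Subgroup.normalizer ((P : Subgroup X) : Set X)) := by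
      have := orderOf_dvd_natCard (⟨(k : X), hkN⟩ : ↥(Subgroup.normalizer ((P : Subgroup X) : Set X)))
      rwa [Subgroup.orderOf_mk] at this
    have h2 : orderOf (k : X) ∣ 144 := by
      rw [Subgroup.orderOf_coe]
      exact (orderOf_dvd_natCard k).trans hK
    have hcop : Nat.Coprime 144 (Nat.card (Subgroup.normalizer ((P : Subgroup X) : Set X))) := by
      have e : (144 : ℕ) = 2 ^ 4 * 3 ^ 2 := by norm_num
      rw [e]
      apply Nat.Coprime.mul_left
      · apply Nat.Coprime.pow_left
        exact (Nat.Prime.coprime_iff_not_dvd Nat.prime_two).mpr hN2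
      · apply Nat.Coprime.pow_left
        exact (Nat.Prime.coprime_iff_not_dvd Nat.prime_three).mpr hN3
    have h3 : orderOf (k : X) = 1 := Nat.eq_one_of_dvd_coprimes hcop h2 h1
    rw [orderOf_eq_one_iff] at h3
    exact Subtype.ext h3
  have hfixcard : Nat.card (MulAction.fixedPoints ↥(P : Subgroup X) ↥K) = 1 := by
    rw [Nat.card_eq_one_iff_unique]
    refine ⟨⟨fun a b => Subtype.ext ((hfix a.1 a.2).trans (hfix b.1 b.2).symm)⟩, ⟨⟨1, ?_⟩⟩⟩
    intro p
    exact smul_one p
  have hmod := hPp.card_modEq_card_fixedPoints ↥K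
  rw [hfixcard] at hmod
  have hK1' : Nat.card K ≠ 1 := by
    intro h; exact hK1 (Subgroup.card_eq_one.mp h)
  have hKcases : Nat.card K = 12 ∨ Nat.card K = 144 := by
    have hle : Nat.card K ≤ 144 := Nat.le_of_dvd (by norm_num) hK
    have hm : Nat.card K % 11 = 1 := hmod
    generalize Nat.card K = a at *
    interval_cases a <;> omega
  have h3K : 3 ∣ Nat.card K := by rcases hKcases with h | h <;> rw [h] <;> norm_num
  -- Sylow 3-subgroups of K
  have h11 : ¬ 11 ∣ Nat.card (Sylow 3 ↥K) := by
    obtain ⟨Q⟩ : Nonempty (Sylow 3 ↥K) := inferInstance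
    intro h
    have h1 := h.trans (Sylow.card_dvd_index Q)
    have h2 := h1.trans ((Subgroup.index_dvd_card _).trans hK)
    omega
  obtain ⟨Q, hQ⟩ := hPp.nonempty_fixed_point_of_prime_not_dvd_card (Sylow 3 ↥K) h11
  have h3Q : 3 ∣ Nat.card Q := Q.dvd_card_of_dvd_card h3K
  have hQle : Nat.card Q ≤ 9 := by
    obtain ⟨n, hn⟩ := IsPGroup.iff_card.mp Q.2
    have hd : Nat.card Q ∣ 144 := (Subgroup.card_subgroup_dvd_card _).trans hK
    rw [hn] at hd ⊢
    have hn2 : n ≤ 2 := by
      by_contra hlt
      have hlt' : 3 ≤ n := by omega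
      have : 3 ^ 3 ∣ 3 ^ n := pow_dvd_pow 3 hlt'
      have := this.trans hd
      omega
    calc 3 ^ n ≤ 3 ^ 2 := Nat.pow_le_pow_right (by norm_num) hn2
      _ = 9 := by norm_num
  -- a nontrivial element of Q
  obtain ⟨q, hq1⟩ : ∃ q : ↥(Q : Subgroup ↥K), q ≠ 1 := by
    haveI : Nontrivial ↥(Q : Subgroup ↥K) := by
      rw [← Finite.one_lt_card_iff_nontrivial]
      have := Nat.le_of_dvd Nat.card_pos h3Q
      omega
    exact exists_ne 1
  -- its orbit lies in Q
  have horb : MulAction.orbit ↥(P : Subgroup X) (q : ↥K) ⊆ ((Q : Subgroup ↥K) : Set ↥K) := by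
    rintro _ ⟨p, rfl⟩
    have hpQ : p • Q = Q := hQ p
    have : p • (q : ↥K) ∈ p • (Q : Subgroup ↥K) := Subgroup.smul_mem_pointwise_smul _ _ _ q.2
    rw [← Sylow.pointwise_smul_def, hpQ] at this
    exact this
  have hcardle : Nat.card (MulAction.orbit ↥(P : Subgroup X) (q : ↥K)) ≤ 9 := by
    have := Nat.card_mono (Set.toFinite _) horb
    exact this.trans hQle
  obtain ⟨n, hn⟩ := hPp.card_orbit (q : ↥K)
  have hn0 : n = 0 := by
    by_contra h
    have : 11 ^ 1 ≤ 11 ^ n := Nat.pow_le_pow_right (by norm_num) (Nat.one_le_iff_ne_zero.mpr h)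
    omega
  rw [hn0, pow_zero] at hn
  have hqfix : (q : ↥K) ∈ MulAction.fixedPoints ↥(P : Subgroup X) ↥K := by
    letI : Fintype (MulAction.orbit ↥(P : Subgroup X) (q : ↥K)) := Fintype.ofFinite _
    rw [MulAction.mem_fixedPoints_iff_card_orbit_eq_one, ← Nat.card_eq_fintype_card]
    exact hn
  have := hfix _ hqfix
  exact hq1 (Subtype.ext this)

end small

section main

variable {G : Type*} [Group G] [Finite G]

/-- an element whose order is divisible by `5` normalizes a Sylow `5`-subgroup -/
theorem orderOf_dvd_card_normalizer_of_five_dvd (hc5 : ∀ P : Sylow 5 G, Nat.card P = 5)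
    {c : ℕ} (hN5 : ∀ P : Sylow 5 G,
      Nat.card (Subgroup.normalizer ((P : Subgroup G) : Set G)) = c)
    (g : G) (h5 : 5 ∣ orderOf g) : orderOf g ∣ c := by
  haveI : Fact (Nat.Prime 5) := ⟨by norm_num⟩
  obtain ⟨m, hm⟩ := h5
  have ho : orderOf g ≠ 0 := (orderOf_pos g).ne'
  have hm0 : m ≠ 0 := by
    rintro rfl; rw [mul_zero] at hm; exact ho hm
  have hh : orderOf (g ^ m) = 5 := by
    rw [orderOf_pow_of_dvd hm0 ⟨5, by rw [hm]; ring⟩, hm]
    exact Nat.mul_div_cancel _ (Nat.pos_of_ne_zero hm0)
  have hp : IsPGroup 5 (Subgroup.zpowers (g ^ m)) :=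
    IsPGroup.of_card (n := 1) (by rw [Nat.card_zpowers, hh, pow_one])
  obtain ⟨P, hP⟩ := hp.exists_le_sylow
  have heq : Subgroup.zpowers (g ^ m) = P :=
    Subgroup.eq_of_le_of_card_ge hP (by rw [hc5 P, Nat.card_zpowers, hh])
  have hgN : g ∈ Subgroup.normalizer ((P : Subgroup G) : Set G) := by
    apply Subgroup.centralizer_le_normalizer
    rw [Subgroup.mem_centralizer_iff]
    intro z hz
    rw [SetLike.mem_coe, ← heq, Subgroup.mem_zpowers_iff] at hz
    obtain ⟨j, rfl⟩ := hz
    exact (((Commute.refl g).pow_left m).zpow_left j).eq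
  have := orderOf_dvd_natCard (⟨g, hgN⟩ : ↥(Subgroup.normalizer ((P : Subgroup G) : Set G)))
  rwa [Subgroup.orderOf_mk, hN5 P] at this

/-- simplicity from the Sylow numbers and the bound on element counts -/
theorem isSimpleGroup_of_counts (hG : Nat.card G = 7920) (h11 : Nat.card (Sylow 11 G) = 144)
    (h5 : Nat.card (Sylow 5 G) = 396) (hsc : ∀ n, sc G n ≤ 1980) : IsSimpleGroup G := by
  classical
  haveI : Fact (Nat.Prime 11) := ⟨by norm_num⟩
  haveI : Fact (Nat.Prime 5) := ⟨by norm_num⟩
  have hc11 : ∀ P : Sylow 11 G, Nat.card P = 11 :=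
    Cfsg.Agent.Lib.Lead.SylowCount.card_sylow_of_card_eq 11 720 (by omega) (by norm_num)
  have hc5 : ∀ P : Sylow 5 G, Nat.card P = 5 :=
    Cfsg.Agent.Lib.Lead.SylowCount.card_sylow_of_card_eq 5 1584 (by omega) (by norm_num)
  have hN11 : ∀ P : Sylow 11 G,
      Nat.card (Subgroup.normalizer ((P : Subgroup G) : Set G)) = 55 := by
    intro P
    have h1 : Nat.card (Sylow 11 G) = (Subgroup.normalizer ((P : Subgroup G) : Set G)).index :=
      Sylow.card_eq_index_normalizer P
    have h2 := Subgroup.card_mul_index (Subgroup.normalizer ((P : Subgroup G) : Set G))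
    rw [← h1, h11, hG] at h2
    omega
  have hN5 : ∀ P : Sylow 5 G,
      Nat.card (Subgroup.normalizer ((P : Subgroup G) : Set G)) = 20 := by
    intro P
    have h1 : Nat.card (Sylow 5 G) = (Subgroup.normalizer ((P : Subgroup G) : Set G)).index :=
      Sylow.card_eq_index_normalizer P
    have h2 := Subgroup.card_mul_index (Subgroup.normalizer ((P : Subgroup G) : Set G))
    rw [← h1, h5, hG] at h2
    omega
  haveI : Nontrivial G := by
    rw [← Finite.one_lt_card_iff_nontrivial, hG]; norm_num
  refine ⟨fun N hN => ?_⟩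
  by_contra hcon
  rw [not_or] at hcon
  obtain ⟨hbot, htop⟩ := hcon
  haveI := hN
  have hmul := Subgroup.card_mul_index N
  rw [hG] at hmul
  have hidx1 : N.index ≠ 1 := fun h => htop (Subgroup.index_eq_one.mp h)
  obtain ⟨P11⟩ : Nonempty (Sylow 11 G) := inferInstance
  obtain ⟨P5⟩ : Nonempty (Sylow 5 G) := inferInstance
  have hi55 : 11 ∣ Nat.card N → N.index ∣ 55 := by
    intro hd11
    rw [← hN11 P11]
    exact index_dvd_card_normalizer N P11 (sylow_le_of_dvd_card N hc11 hd11 P11)
  by_cases hd5 : 5 ∣ Nat.card N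
  · have hi20 : N.index ∣ 20 := by
      rw [← hN5 P5]
      exact index_dvd_card_normalizer N P5 (sylow_le_of_dvd_card N hc5 hd5 P5)
    have hd11 : 11 ∣ Nat.card N := by
      obtain ⟨k, hk⟩ := hi20
      have : Nat.card N * 20 = 7920 * k := by
        calc Nat.card N * 20 = Nat.card N * (N.index * k) := by rw [hk]
          _ = (Nat.card N * N.index) * k := by ring
          _ = 7920 * k := by rw [hmul]
      omega
    have hi5 : N.index ∣ 5 := by
      have := Nat.dvd_gcd hi20 (hi55 hd11)
      have e : Nat.gcd 20 55 = 5 := by norm_num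
      rwa [e] at this
    rcases (Nat.dvd_prime (by norm_num : Nat.Prime 5)).mp hi5 with h | h
    · exact hidx1 h
    · rw [h] at hmul; omega
  · by_cases hd11 : 11 ∣ Nat.card N
    · have hcases : N.index = 1 ∨ N.index = 5 ∨ N.index = 11 ∨ N.index = 55 := by
        have h55 := hi55 hd11
        have hle : N.index ≤ 55 := Nat.le_of_dvd (by norm_num) h55
        generalize N.index = i at *
        clear hmul
        interval_cases i <;> omega
      rcases hcases with h | h | h | h
      · exact hidx1 h
      · -- `|N| = 1584`: counting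
        rw [h] at hmul
        have hcardN : Nat.card N = 1584 := by omega
        have hout : ∀ g : G, g ∉ N → orderOf g = 5 ∨ orderOf g = 10 ∨ orderOf g = 20 := by
          intro g hg
          have h5o : 5 ∣ orderOf g := by
            by_contra hnd
            have hcop : Nat.Coprime 5 (orderOf g) :=
              (Nat.Prime.coprime_iff_not_dvd (by norm_num)).mpr hnd
            obtain ⟨m, hm⟩ := exists_pow_eq_self_of_coprime hcop
            have h1 : g ^ 5 ∈ N := by
              have := N.pow_index_mem g
              rwa [h] at this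
            apply hg
            rw [← hm]
            exact N.pow_mem h1 m
          have h20 := orderOf_dvd_card_normalizer_of_five_dvd hc5 hN5 g h5o
          have hle : orderOf g ≤ 20 := Nat.le_of_dvd (by norm_num) h20
          generalize orderOf g = o at *
          interval_cases o <;> omega
        letI : Fintype G := Fintype.ofFinite G
        have hsub : (Finset.univ : Finset G) ⊆
            ((Finset.univ.filter (fun g : G => g ∈ N) ∪
              Finset.univ.filter (fun g : G => orderOf g = 5)) ∪
              Finset.univ.filter (fun g : G => orderOf g = 10)) ∪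
              Finset.univ.filter (fun g : G => orderOf g = 20) := by
          intro g _
          simp only [Finset.mem_union, Finset.mem_filter, Finset.mem_univ, true_and]
          by_cases hgN : g ∈ N
          · exact Or.inl (Or.inl (Or.inl hgN))
          · rcases hout g hgN with h | h | h
            · exact Or.inl (Or.inl (Or.inr h))
            · exact Or.inl (Or.inr h)
            · exact Or.inr h
        have h1 := Finset.card_le_card hsub
        have h2 := Finset.card_union_le ((Finset.univ.filter (fun g : G => g ∈ N) ∪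
              Finset.univ.filter (fun g : G => orderOf g = 5)) ∪
              Finset.univ.filter (fun g : G => orderOf g = 10))
              (Finset.univ.filter (fun g : G => orderOf g = 20))
        have h3 := Finset.card_union_le (Finset.univ.filter (fun g : G => g ∈ N) ∪
              Finset.univ.filter (fun g : G => orderOf g = 5))
              (Finset.univ.filter (fun g : G => orderOf g = 10))
        have h4 := Finset.card_union_le (Finset.univ.filter (fun g : G => g ∈ N))
              (Finset.univ.filter (fun g : G => orderOf g = 5))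
        have e0 : (Finset.univ : Finset G).card = 7920 := by
          rw [Finset.card_univ, ← Nat.card_eq_fintype_card, hG]
        have eN : (Finset.univ.filter (fun g : G => g ∈ N)).card = 1584 := by
          rw [← hcardN, Nat.card_eq_fintype_card, Fintype.card_subtype]
        have e5 := sc_eq_card_filter (G := G) 5
        have e10 := sc_eq_card_filter (G := G) 10
        have e20 := sc_eq_card_filter (G := G) 20
        have b5 := hsc 5
        have b10 := hsc 10
        have b20 := hsc 20
        omega
      · rw [h] at hmul; omega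
      · rw [h] at hmul; omega
    · have ha : Nat.card N ∣ 144 := by
        have h1 : Nat.card N ∣ 144 * 55 := ⟨N.index, by omega⟩
        have hcop : Nat.Coprime (Nat.card N) 55 := by
          have e : (55 : ℕ) = 5 * 11 := by norm_num
          rw [e]
          apply Nat.Coprime.mul_right
          · exact ((Nat.Prime.coprime_iff_not_dvd (by norm_num)).mpr hd5).symm
          · exact ((Nat.Prime.coprime_iff_not_dvd (by norm_num)).mpr hd11).symm
        exact hcop.dvd_of_dvd_mul_right h1
      exact no_small_normal N hbot ha P11 (hc11 P11) (by rw [hN11]; norm_num)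
        (by rw [hN11]; norm_num)

/-- the Sylow numbers from the order and the `nse` set -/
theorem counts_of_nse (hG : Nat.card G = 7920)
    (hnse : {c : ℕ | 0 < c ∧ ∃ n : ℕ, c = Nat.card {g : G // orderOf g = n}} =
      {1, 165, 440, 990, 1584, 1320, 1980, 1440}) :
    Nat.card (Sylow 11 G) = 144 ∧ Nat.card (Sylow 5 G) = 396 ∧ ∀ n, sc G n ≤ 1980 := by
  haveI : Fact (Nat.Prime 11) := ⟨by norm_num⟩
  haveI : Fact (Nat.Prime 5) := ⟨by norm_num⟩
  have hmem : ∀ n, sc G n = 0 ∨ sc G n = 1 ∨ sc G n = 165 ∨ sc G n = 440 ∨ sc G n = 990 ∨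
      sc G n = 1584 ∨ sc G n = 1320 ∨ sc G n = 1980 ∨ sc G n = 1440 := by
    intro n
    rcases Nat.eq_zero_or_pos (sc G n) with h | h
    · exact Or.inl h
    · right
      have : sc G n ∈ {c : ℕ | 0 < c ∧ ∃ n : ℕ, c = Nat.card {g : G // orderOf g = n}} :=
        ⟨h, n, rfl⟩
      rw [hnse] at this
      simpa using this
  have hc11 : ∀ P : Sylow 11 G, Nat.card P = 11 :=
    Cfsg.Agent.Lib.Lead.SylowCount.card_sylow_of_card_eq 11 720 (by omega) (by norm_num)
  have hc5 : ∀ P : Sylow 5 G, Nat.card P = 5 :=
    Cfsg.Agent.Lib.Lead.SylowCount.card_sylow_of_card_eq 5 1584 (by omega) (by norm_num)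
  refine ⟨?_, ?_, ?_⟩
  · have h1 := sc_prime_eq (G := G) 11 hc11
    have h2 : Nat.card (Sylow 11 G) % 11 = 1 := card_sylow_modEq_one 11 G
    have h3 := sc_prime_pos (G := G) (p := 11) (by norm_num) (by rw [hG]; norm_num)
    rcases hmem 11 with h | h | h | h | h | h | h | h | h <;> omega
  · have h1 := sc_prime_eq (G := G) 5 hc5
    have h2 : Nat.card (Sylow 5 G) % 5 = 1 := card_sylow_modEq_one 5 G
    have h3 := sc_prime_pos (G := G) (p := 5) (by norm_num) (by rw [hG]; norm_num)
    rcases hmem 5 with h | h | h | h | h | h | h | h | h <;> omega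
  · intro n
    rcases hmem n with h | h | h | h | h | h | h | h | h <;> omega

/-- a group of order `7920` with the `nse` set of `M₁₁` is simple -/
theorem isSimpleGroup_of_nse (hG : Nat.card G = 7920)
    (hnse : {c : ℕ | 0 < c ∧ ∃ n : ℕ, c = Nat.card {g : G // orderOf g = n}} =
      {1, 165, 440, 990, 1584, 1320, 1980, 1440}) : IsSimpleGroup G := by
  obtain ⟨h11, h5, hsc⟩ := counts_of_nse hG hnse
  exact isSimpleGroup_of_counts hG h11 h5 hsc

end main

end Cfsg.Agent.Lib.Helper5.NSE.M11R
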