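import Mathlib
import Cfsg.Agent.Lib.Helper5.NSE.M11Simple

/-! Variant of `isSimpleGroup_of_counts` with a weaker counting hypothesis. -/

set_option autoImplicit false
set_option linter.unusedSectionVars false
set_option linter.unusedVariables false
set_option linter.style.longLine false
set_option linter.unusedSimpArgs false
set_option linter.unusedDecidableInType false
set_option linter.style.haveILetI false

namespace Cfsg.Agent.Lib.Helper5.NSE.M11R

open Cfsg.Agent.Lib.Helper5.NSE Cfsg.Agent.Lib.Helper5.Ord
open scoped Pointwise

variable {G : Type*} [Group G] [Finite G]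

/-- simplicity from the Sylow numbers and a bound on the number of elements of orders `5, 10, 20` -/
theorem isSimpleGroup_of_counts' (hG : Nat.card G = 7920) (h11 : Nat.card (Sylow 11 G) = 144)
    (h5 : Nat.card (Sylow 5 G) = 396) (hsc : sc G 5 + sc G 10 + sc G 20 < 6336) :
    IsSimpleGroup G := by
  classical
  haveI : Fact (Nat.Prime 11) := ⟨by norm_num⟩
  haveI : Fact (Nat.Prime 5) := ⟨by norm_num⟩
  have hc11 : ∀ P : Sylow 11 G, Nat.card P = 11 :=
    Cfsg.Agent.Lib.Lead.SylowCount.card_sylow_of_card_eq 11 720 (by omega) (by norm_num)
  have hc5 : ∀ P : Sylow 5 G, Nat.card P = 5 :=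
    Cfsg.Agent.Lib.Lead.SylowCount.card_sylow_of_card_eq 5 1584 (by omega) (by norm_num)
  have hN11 : ∀ P : Sylow 11 G,
      Nat.card (Subgroup.normalizer ((P : Subgroup G) : Set G)) = 55 := by
    intro P
    have h1 : Nat.card (Sylow 11 G) = (Subgroup.normalizer ((P : Subgroup G) : Set G)).index :=
      Sylow.card_eq_index_normalizer P
    have h2 := Subgroup.card_mul_index (Subgroup.normalizer ((P : Subgroup G) : Set G))
    rw [← h1, h11, hG] at h2
    omega
  have hN5 : ∀ P : Sylow 5 G,
      Nat.card (Subgroup.normalizer ((P : Subgroup G) : Set G)) = 20 := by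
    intro P
    have h1 : Nat.card (Sylow 5 G) = (Subgroup.normalizer ((P : Subgroup G) : Set G)).index :=
      Sylow.card_eq_index_normalizer P
    have h2 := Subgroup.card_mul_index (Subgroup.normalizer ((P : Subgroup G) : Set G))
    rw [← h1, h5, hG] at h2
    omega
  haveI : Nontrivial G := by
    rw [← Finite.one_lt_card_iff_nontrivial, hG]; norm_num
  refine ⟨fun N hN => ?_⟩
  by_contra hcon
  rw [not_or] at hcon
  obtain ⟨hbot, htop⟩ := hcon
  haveI := hN
  have hmul := Subgroup.card_mul_index N
  rw [hG] at hmul
  have hidx1 : N.index ≠ 1 := fun h => htop (Subgroup.index_eq_one.mp h)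
  obtain ⟨P11⟩ : Nonempty (Sylow 11 G) := inferInstance
  obtain ⟨P5⟩ : Nonempty (Sylow 5 G) := inferInstance
  have hi55 : 11 ∣ Nat.card N → N.index ∣ 55 := by
    intro hd11
    rw [← hN11 P11]
    exact index_dvd_card_normalizer N P11 (sylow_le_of_dvd_card N hc11 hd11 P11)
  by_cases hd5 : 5 ∣ Nat.card N
  · have hi20 : N.index ∣ 20 := by
      rw [← hN5 P5]
      exact index_dvd_card_normalizer N P5 (sylow_le_of_dvd_card N hc5 hd5 P5)
    have hd11 : 11 ∣ Nat.card N := by
      obtain ⟨k, hk⟩ := hi20
      have : Nat.card N * 20 = 7920 * k := by
        calc Nat.card N * 20 = Nat.card N * (N.index * k) := by rw [hk]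
          _ = (Nat.card N * N.index) * k := by ring
          _ = 7920 * k := by rw [hmul]
      omega
    have hi5 : N.index ∣ 5 := by
      have := Nat.dvd_gcd hi20 (hi55 hd11)
      have e : Nat.gcd 20 55 = 5 := by norm_num
      rwa [e] at this
    rcases (Nat.dvd_prime (by norm_num : Nat.Prime 5)).mp hi5 with h | h
    · exact hidx1 h
    · rw [h] at hmul; omega
  · by_cases hd11 : 11 ∣ Nat.card N
    · have hcases : N.index = 1 ∨ N.index = 5 ∨ N.index = 11 ∨ N.index = 55 := by
        have h55 := hi55 hd11
        have hle : N.index ≤ 55 := Nat.le_of_dvd (by norm_num) h55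
        generalize N.index = i at *
        clear hmul
        interval_cases i <;> omega
      rcases hcases with h | h | h | h
      · exact hidx1 h
      · -- `|N| = 1584`: counting
        rw [h] at hmul
        have hcardN : Nat.card N = 1584 := by omega
        have hout : ∀ g : G, g ∉ N → orderOf g = 5 ∨ orderOf g = 10 ∨ orderOf g = 20 := by
          intro g hg
          have h5o : 5 ∣ orderOf g := by
            by_contra hnd
            have hcop : Nat.Coprime 5 (orderOf g) :=
              (Nat.Prime.coprime_iff_not_dvd (by norm_num)).mpr hnd
            obtain ⟨m, hm⟩ := exists_pow_eq_self_of_coprime hcop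
            have h1 : g ^ 5 ∈ N := by
              have := N.pow_index_mem g
              rwa [h] at this
            apply hg
            rw [← hm]
            exact N.pow_mem h1 m
          have h20 := orderOf_dvd_card_normalizer_of_five_dvd hc5 hN5 g h5o
          have hle : orderOf g ≤ 20 := Nat.le_of_dvd (by norm_num) h20
          generalize orderOf g = o at *
          interval_cases o <;> omega
        letI : Fintype G := Fintype.ofFinite G
        have hsub : (Finset.univ : Finset G) ⊆
            ((Finset.univ.filter (fun g : G => g ∈ N) ∪
              Finset.univ.filter (fun g : G => orderOf g = 5)) ∪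
              Finset.univ.filter (fun g : G => orderOf g = 10)) ∪
              Finset.univ.filter (fun g : G => orderOf g = 20) := by
          intro g _
          simp only [Finset.mem_union, Finset.mem_filter, Finset.mem_univ, true_and]
          by_cases hgN : g ∈ N
          · exact Or.inl (Or.inl (Or.inl hgN))
          · rcases hout g hgN with h | h | h
            · exact Or.inl (Or.inl (Or.inr h))
            · exact Or.inl (Or.inr h)
            · exact Or.inr h
        have h1 := Finset.card_le_card hsub
        have h2 := Finset.card_union_le ((Finset.univ.filter (fun g : G => g ∈ N) ∪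
              Finset.univ.filter (fun g : G => orderOf g = 5)) ∪
              Finset.univ.filter (fun g : G => orderOf g = 10))
              (Finset.univ.filter (fun g : G => orderOf g = 20))
        have h3 := Finset.card_union_le (Finset.univ.filter (fun g : G => g ∈ N) ∪
              Finset.univ.filter (fun g : G => orderOf g = 5))
              (Finset.univ.filter (fun g : G => orderOf g = 10))
        have h4 := Finset.card_union_le (Finset.univ.filter (fun g : G => g ∈ N))
              (Finset.univ.filter (fun g : G => orderOf g = 5))
        have e0 : (Finset.univ : Finset G).card = 7920 := by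
          rw [Finset.card_univ, ← Nat.card_eq_fintype_card, hG]
        have eN : (Finset.univ.filter (fun g : G => g ∈ N)).card = 1584 := by
          rw [← hcardN, Nat.card_eq_fintype_card, Fintype.card_subtype]
        have e5 := sc_eq_card_filter (G := G) 5
        have e10 := sc_eq_card_filter (G := G) 10
        have e20 := sc_eq_card_filter (G := G) 20
        omega
      · rw [h] at hmul; omega
      · rw [h] at hmul; omega
    · have ha : Nat.card N ∣ 144 := by
        have h1 : Nat.card N ∣ 144 * 55 := ⟨N.index, by omega⟩
        have hcop : Nat.Coprime (Nat.card N) 55 := by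
          have e : (55 : ℕ) = 5 * 11 := by norm_num
          rw [e]
          apply Nat.Coprime.mul_right
          · exact ((Nat.Prime.coprime_iff_not_dvd (by norm_num)).mpr hd5).symm
          · exact ((Nat.Prime.coprime_iff_not_dvd (by norm_num)).mpr hd11).symm
        exact hcop.dvd_of_dvd_mul_right h1
      exact no_small_normal N hbot ha P11 (hc11 P11) (by rw [hN11]; norm_num)
        (by rw [hN11]; norm_num)


end Cfsg.Agent.Lib.Helper5.NSE.M11R
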