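import Mathlib
import Cfsg.Agent.Lib.Helper5.NSE.Basic

/-!
# The numbers of elements of each order of `A₄`, `A₅`, `A₆`
-/

set_option autoImplicit false
set_option maxRecDepth 100000

namespace Cfsg.Agent.Lib.Helper5.NSE

theorem sc_eq_card_filter' {G : Type*} [Group G] [Fintype G] [DecidableEq G] {m : ℕ}
    (hm : 0 < m) :
    sc G m = (Finset.univ.filter
      (fun g : G => g ^ m = 1 ∧ ∀ d < m, 0 < d → g ^ d ≠ 1)).card := by
  rw [sc_eq_card_filter]
  congr 1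
  ext g
  simp only [Finset.mem_filter, Finset.mem_univ, true_and]
  exact orderOf_eq_iff hm

theorem orderOf_mem_of_forall {G : Type*} [Group G] (L : Finset ℕ) (hL : ∀ m ∈ L, 0 < m)
    (h : ∀ g : G, ∃ m ∈ L, g ^ m = 1 ∧ ∀ d < m, 0 < d → g ^ d ≠ 1) (g : G) : orderOf g ∈ L := by
  obtain ⟨m, hm, h1⟩ := h g
  rw [(orderOf_eq_iff (hL m hm)).mpr h1]
  exact hm

theorem a4_orders : ∀ g : ↥(alternatingGroup (Fin 4)),
    ∃ m ∈ ({1, 2, 3} : Finset ℕ), g ^ m = 1 ∧ ∀ d < m, 0 < d → g ^ d ≠ 1 := by decide +kernel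

theorem a4_sc2 : sc ↥(alternatingGroup (Fin 4)) 2 = 3 := by
  rw [sc_eq_card_filter' (by norm_num)]; decide +kernel

theorem a4_sc3 : sc ↥(alternatingGroup (Fin 4)) 3 = 8 := by
  rw [sc_eq_card_filter' (by norm_num)]; decide +kernel

theorem a5_orders : ∀ g : ↥(alternatingGroup (Fin 5)),
    ∃ m ∈ ({1, 2, 3, 5} : Finset ℕ), g ^ m = 1 ∧ ∀ d < m, 0 < d → g ^ d ≠ 1 := by decide +kernel

theorem a5_sc2 : sc ↥(alternatingGroup (Fin 5)) 2 = 15 := by
  rw [sc_eq_card_filter' (by norm_num)]; decide +kernel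

theorem a5_sc3 : sc ↥(alternatingGroup (Fin 5)) 3 = 20 := by
  rw [sc_eq_card_filter' (by norm_num)]; decide +kernel

theorem a5_sc5 : sc ↥(alternatingGroup (Fin 5)) 5 = 24 := by
  rw [sc_eq_card_filter' (by norm_num)]; decide +kernel

end Cfsg.Agent.Lib.Helper5.NSE
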