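import Mathlib
import Cfsg.Agent.Lib.Helper5.NSE.AltData

/-!
# The numbers of elements of each order of `A₆`
-/

set_option autoImplicit false
set_option maxRecDepth 100000

namespace Cfsg.Agent.Lib.Helper5.NSE

theorem a6_orders : ∀ g : ↥(alternatingGroup (Fin 6)),
    ∃ m ∈ ({1, 2, 3, 4, 5} : Finset ℕ), g ^ m = 1 ∧ ∀ d < m, 0 < d → g ^ d ≠ 1 := by
  decide +kernel

theorem a6_sc2 : sc ↥(alternatingGroup (Fin 6)) 2 = 45 := by
  rw [sc_eq_card_filter' (by norm_num)]; decide +kernel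

theorem a6_sc3 : sc ↥(alternatingGroup (Fin 6)) 3 = 80 := by
  rw [sc_eq_card_filter' (by norm_num)]; decide +kernel

theorem a6_sc4 : sc ↥(alternatingGroup (Fin 6)) 4 = 90 := by
  rw [sc_eq_card_filter' (by norm_num)]; decide +kernel

theorem a6_sc5 : sc ↥(alternatingGroup (Fin 6)) 5 = 144 := by
  rw [sc_eq_card_filter' (by norm_num)]; decide +kernel

end Cfsg.Agent.Lib.Helper5.NSE
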