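import Mathlib
import Cfsg.Agent.Lib.Helper5.NSE.AltData6

/-!
# `nse(A₄) = {1, 3, 8}`, `nse(A₅) = {1, 15, 20, 24}`, `nse(A₆) = {1, 45, 80, 90, 144}`
-/

set_option autoImplicit false

namespace Cfsg.Agent.Lib.Helper5.NSE

theorem nse_of_data {H : Type*} [Group H] [Finite H] (L : Finset ℕ)
    (hL1 : ∀ g : H, orderOf g ∈ L) (hL2 : ∀ m ∈ L, 0 < sc H m) :
    (fun m : ℕ => Nat.card {g : H // orderOf g = m}) '' Set.range (orderOf : H → ℕ) =
      (fun m => sc H m) '' (L : Set ℕ) := by
  have h1 : Set.range (orderOf : H → ℕ) = (L : Set ℕ) := by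
    ext m
    constructor
    · rintro ⟨g, rfl⟩
      exact hL1 g
    · intro hm
      exact sc_pos_iff.mp (hL2 m hm)
  rw [h1]
  rfl

theorem nse_A4 : (fun m : ℕ => Nat.card {g : ↥(alternatingGroup (Fin 4)) // orderOf g = m}) ''
    Set.range (orderOf : ↥(alternatingGroup (Fin 4)) → ℕ) = {1, 3, 8} := by
  rw [nse_of_data {1, 2, 3} (orderOf_mem_of_forall _ (by decide) a4_orders) (by
    intro m hm
    simp only [Finset.mem_insert, Finset.mem_singleton] at hm
    rcases hm with rfl | rfl | rfl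
    · rw [sc_one]; norm_num
    · rw [a4_sc2]; norm_num
    · rw [a4_sc3]; norm_num)]
  simp only [Finset.coe_insert, Finset.coe_singleton, Set.image_insert_eq, Set.image_singleton,
    sc_one, a4_sc2, a4_sc3]

theorem nse_A5 : (fun m : ℕ => Nat.card {g : ↥(alternatingGroup (Fin 5)) // orderOf g = m}) ''
    Set.range (orderOf : ↥(alternatingGroup (Fin 5)) → ℕ) = {1, 15, 20, 24} := by
  rw [nse_of_data {1, 2, 3, 5} (orderOf_mem_of_forall _ (by decide) a5_orders) (by
    intro m hm
    simp only [Finset.mem_insert, Finset.mem_singleton] at hm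
    rcases hm with rfl | rfl | rfl | rfl
    · rw [sc_one]; norm_num
    · rw [a5_sc2]; norm_num
    · rw [a5_sc3]; norm_num
    · rw [a5_sc5]; norm_num)]
  simp only [Finset.coe_insert, Finset.coe_singleton, Set.image_insert_eq, Set.image_singleton,
    sc_one, a5_sc2, a5_sc3, a5_sc5]

theorem nse_A6 : (fun m : ℕ => Nat.card {g : ↥(alternatingGroup (Fin 6)) // orderOf g = m}) ''
    Set.range (orderOf : ↥(alternatingGroup (Fin 6)) → ℕ) = {1, 45, 80, 90, 144} := by
  rw [nse_of_data {1, 2, 3, 4, 5} (orderOf_mem_of_forall _ (by decide) a6_orders) (by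
    intro m hm
    simp only [Finset.mem_insert, Finset.mem_singleton] at hm
    rcases hm with rfl | rfl | rfl | rfl | rfl
    · rw [sc_one]; norm_num
    · rw [a6_sc2]; norm_num
    · rw [a6_sc3]; norm_num
    · rw [a6_sc4]; norm_num
    · rw [a6_sc5]; norm_num)]
  simp only [Finset.coe_insert, Finset.coe_singleton, Set.image_insert_eq, Set.image_singleton,
    sc_one, a6_sc2, a6_sc3, a6_sc4, a6_sc5]

end Cfsg.Agent.Lib.Helper5.NSE
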