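import Mathlib
import Cfsg.Agent.Lib.Helper5.NSE.Basic2

/-!
# Groups with `nse(G) = {1, 3, 8}` have order 12
-/

set_option autoImplicit false

namespace Cfsg.Agent.Lib.Helper5.NSE

variable {G : Type*} [Group G] [Finite G]

theorem frob_list (m : ℕ) (l : List ℕ) (hl : l.Nodup) (h : m.divisors = l.toFinset)
    (hm : m ∣ Nat.card G) : m ∣ (l.map (sc G)).sum := by
  have h1 := frobenius (G := G) hm
  rwa [h, List.sum_toFinset _ hl] at h1

theorem card_eq_list (n : ℕ) (l : List ℕ) (hl : l.Nodup) (h : n.divisors = l.toFinset)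
    (hn : Nat.card G = n) : n = (l.map (sc G)).sum := by
  have h1 := card_eq_sum (G := G)
  rw [hn, h, List.sum_toFinset _ hl] at h1
  exact h1

theorem dvd_of_pow_le {p a k : ℕ} (h : k ≤ a) (b : ℕ) : p ^ k ∣ p ^ a * b :=
  Dvd.dvd.mul_right (pow_dvd_pow p h) b

theorem card_eq_twelve_of_nse
    (h : (fun m : ℕ => Nat.card {g : G // orderOf g = m}) '' Set.range (orderOf : G → ℕ) =
      {1, 3, 8}) : Nat.card G = 12 ∧ sc G 3 = 8 := by
  have hmem := sc_eq_zero_or_mem h
  have h2 : sc G 2 = 3 := by
    obtain ⟨m, hm, -⟩ := exists_sc_eq h (v := 3) (by simp)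
    have h5 := eq_two_of_odd_sc (by decide) (by norm_num) hm
    subst h5
    exact hm
  have hS : ∀ m, 2 < m → sc G m = 0 ∨ sc G m = 8 := by
    intro m hm
    have hev := even_sc (G := G) hm
    rcases hmem m with h0 | h0
    · left; exact h0
    · simp only [Set.mem_insert_iff, Set.mem_singleton_iff] at h0
      rcases h0 with h0 | h0 | h0
      · rw [h0] at hev; exact absurd hev (by decide)
      · rw [h0] at hev; exact absurd hev (by decide)
      · right; exact h0
  obtain ⟨n, hn⟩ : ∃ n, Nat.card G = n := ⟨_, rfl⟩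
  have hnpos : 0 < n := by rw [← hn]; exact Nat.card_pos
  have hprimes : ∀ p, p.Prime → p ∣ n → p = 2 ∨ p = 3 := by
    intro p hp hpn
    by_cases hp2 : p = 2
    · left; exact hp2
    right
    have hp3 : 2 < p := lt_of_le_of_ne hp.two_le (Ne.symm hp2)
    have hpos := sc_prime_pos (G := G) hp (by rw [hn]; exact hpn)
    have h8 : sc G p = 8 := by
      rcases hS p hp3 with h0 | h0
      · omega
      · exact h0
    have hF := frobenius (G := G) (m := p) (by rw [hn]; exact hpn)
    rw [hp.divisors, Finset.sum_pair hp.one_lt.ne, sc_one, h8] at hF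
    have h9 : p ∣ 3 ^ 2 := by norm_num; exact hF
    exact (Nat.prime_dvd_prime_iff_eq hp Nat.prime_three).mp (hp.dvd_of_dvd_pow h9)
  obtain ⟨a, b, c, habc⟩ := exists_eq_pow_mul_pow_mul_pow n hnpos (by
    intro p hp hpn
    rcases hprimes p hp hpn with h5 | h5
    · exact Or.inl h5
    · exact Or.inr (Or.inl h5))
  have hc0 : c = 0 := by
    by_contra hc
    have h5 : 5 ∣ n := by
      rw [habc]; exact Dvd.dvd.mul_left (dvd_pow_self 5 hc) _
    rcases hprimes 5 (by norm_num) h5 with h6 | h6 <;> omega
  rw [hc0, pow_zero, mul_one] at habc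
  -- the 2-part
  have ha2 : a ≤ 2 := by
    by_contra ha
    have h8 : 8 ∣ Nat.card G := by
      rw [hn, habc]; exact dvd_of_pow_le (p := 2) (k := 3) (by omega) _
    have hF := frob_list (G := G) 8 [1, 2, 4, 8] (by decide) (by decide) h8
    simp only [List.map, List.sum_cons, List.sum_nil, sc_one, h2] at hF
    rcases hS 4 (by norm_num) with h4 | h4 <;> rcases hS 8 (by norm_num) with h8' | h8' <;>
      rw [h4, h8'] at hF <;> omega
  have hb2 : b ≤ 2 := by
    by_contra hb
    have h27 : 27 ∣ Nat.card G := by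
      rw [hn, habc, mul_comm]; exact dvd_of_pow_le (p := 3) (k := 3) (by omega) _
    have hF := frob_list (G := G) 27 [1, 3, 9, 27] (by decide) (by decide) h27
    simp only [List.map, List.sum_cons, List.sum_nil, sc_one] at hF
    rcases hS 3 (by norm_num) with h3 | h3 <;> rcases hS 9 (by norm_num) with h9 | h9 <;>
      rcases hS 27 (by norm_num) with h27' | h27' <;> rw [h3, h9, h27'] at hF <;> omega
  have ha1 : 1 ≤ a := by
    by_contra ha
    have ha0 : a = 0 := by omega
    have h2n : 2 ∣ n := by
      rw [← hn]; exact dvd_card_of_sc_pos (by rw [h2]; norm_num)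
    rw [habc, ha0, pow_zero, one_mul] at h2n
    have := (Nat.Prime.dvd_of_dvd_pow Nat.prime_two h2n)
    omega
  -- the value 8 is attained
  obtain ⟨m8, hm8, hm8pos⟩ := exists_sc_eq h (v := 8) (by simp)
  have hm8n : m8 ∣ n := by rw [← hn]; exact dvd_card_of_sc_pos hm8pos
  have hcases : (a = 1 ∨ a = 2) ∧ (b = 0 ∨ b = 1 ∨ b = 2) := by omega
  obtain ⟨ha, hb⟩ := hcases
  rcases ha with rfl | rfl <;> rcases hb with rfl | rfl | rfl <;> norm_num at habc <;> subst habc
  · -- n = 2
    have hT := card_eq_list (G := G) 2 [1, 2] (by decide) (by decide) hn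
    simp only [List.map, List.sum_cons, List.sum_nil, sc_one, h2] at hT
    omega
  · -- n = 6
    have hT := card_eq_list (G := G) 6 [1, 2, 3, 6] (by decide) (by decide) hn
    simp only [List.map, List.sum_cons, List.sum_nil, sc_one, h2] at hT
    rcases hS 3 (by norm_num) with h3 | h3 <;> rcases hS 6 (by norm_num) with h6 | h6 <;>
      rw [h3, h6] at hT <;> omega
  · -- n = 18
    have hT := card_eq_list (G := G) 18 [1, 2, 3, 6, 9, 18] (by decide) (by decide) hn
    simp only [List.map, List.sum_cons, List.sum_nil, sc_one, h2] at hT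
    rcases hS 3 (by norm_num) with h3 | h3 <;> rcases hS 6 (by norm_num) with h6 | h6 <;>
      rcases hS 9 (by norm_num) with h9 | h9 <;> rcases hS 18 (by norm_num) with h18 | h18 <;>
      rw [h3, h6, h9, h18] at hT <;> omega
  · -- n = 4
    have hT := card_eq_list (G := G) 4 [1, 2, 4] (by decide) (by decide) hn
    simp only [List.map, List.sum_cons, List.sum_nil, sc_one, h2] at hT
    have h4 : sc G 4 = 0 := by omega
    have hm8' : m8 ∈ Nat.divisors 4 := Nat.mem_divisors.mpr ⟨hm8n, by norm_num⟩
    have hd : Nat.divisors 4 = {1, 2, 4} := by decide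
    rw [hd] at hm8'
    simp only [Finset.mem_insert, Finset.mem_singleton] at hm8'
    rcases hm8' with rfl | rfl | rfl
    · rw [sc_one] at hm8; omega
    · rw [h2] at hm8; omega
    · rw [h4] at hm8; omega
  · -- n = 12
    have hT := card_eq_list (G := G) 12 [1, 2, 3, 4, 6, 12] (by decide) (by decide) hn
    simp only [List.map, List.sum_cons, List.sum_nil, sc_one, h2] at hT
    have h3pos := sc_prime_pos (G := G) Nat.prime_three (by rw [hn]; norm_num)
    refine ⟨hn, ?_⟩
    rcases hS 3 (by norm_num) with h3 | h3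
    · omega
    · exact h3
  · -- n = 36
    exfalso
    have h18 : 18 ∣ Nat.card G := by rw [hn]; norm_num
    have hF := frob_list (G := G) 18 [1, 2, 3, 6, 9, 18] (by decide) (by decide) h18
    simp only [List.map, List.sum_cons, List.sum_nil, sc_one, h2] at hF
    have h3pos := sc_prime_pos (G := G) Nat.prime_three (by rw [hn]; norm_num)
    have ht9 := totient_dvd_sc (G := G) 9
    have ht18 := totient_dvd_sc (G := G) 18
    have e9 : Nat.totient 9 = 6 := by decide
    have e18 : Nat.totient 18 = 6 := by decide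
    rw [e9] at ht9
    rw [e18] at ht18
    rcases hS 3 (by norm_num) with h3 | h3 <;> rcases hS 6 (by norm_num) with h6 | h6 <;>
      rcases hS 9 (by norm_num) with h9 | h9 <;> rcases hS 18 (by norm_num) with h18' | h18' <;>
      rw [h3, h6, h9, h18'] at hF <;> omega

end Cfsg.Agent.Lib.Helper5.NSE
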