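import Mathlib
import Cfsg.Agent.Lib.Helper5.NSE.CaseA4

/-!
# Groups with `nse(G) = {1, 15, 20, 24}` have order 60
-/

set_option autoImplicit false

namespace Cfsg.Agent.Lib.Helper5.NSE

variable {G : Type*} [Group G] [Finite G]

/-- the order is at least the sum of the numbers of elements of the orders in a list -/
theorem sum_le_card (l : List ℕ) (hl : l.Nodup) (h : ∀ m ∈ l, 0 < sc G m) :
    (l.map (sc G)).sum ≤ Nat.card G := by
  rw [← List.sum_toFinset _ hl]
  conv_rhs => rw [card_eq_sum (G := G)]
  apply Finset.sum_le_sum_of_subset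
  intro m hm
  rw [List.mem_toFinset] at hm
  exact Nat.mem_divisors.mpr ⟨dvd_card_of_sc_pos (h m hm), Nat.card_pos.ne'⟩

theorem not_three_dvd_two_pow_mul_five_pow (a c : ℕ) : ¬ 3 ∣ 2 ^ a * 5 ^ c := by
  intro h
  rcases (Nat.Prime.dvd_mul Nat.prime_three).mp h with h1 | h1
  · have := Nat.Prime.dvd_of_dvd_pow Nat.prime_three h1
    omega
  · have := Nat.Prime.dvd_of_dvd_pow Nat.prime_three h1
    omega

theorem not_five_dvd_two_pow_mul_three_pow (a b : ℕ) : ¬ 5 ∣ 2 ^ a * 3 ^ b := by
  intro h
  rcases (Nat.Prime.dvd_mul Nat.prime_five).mp h with h1 | h1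
  · have := Nat.Prime.dvd_of_dvd_pow Nat.prime_five h1
    omega
  · have := Nat.Prime.dvd_of_dvd_pow Nat.prime_five h1
    omega

theorem card_eq_sixty_of_nse
    (h : (fun m : ℕ => Nat.card {g : G // orderOf g = m}) '' Set.range (orderOf : G → ℕ) =
      {1, 15, 20, 24}) : Nat.card G = 60 ∧ sc G 5 = 24 := by
  have hmem := sc_eq_zero_or_mem h
  have h2 : sc G 2 = 15 := by
    obtain ⟨m, hm, -⟩ := exists_sc_eq h (v := 15) (by simp)
    have h5 := eq_two_of_odd_sc (by decide) (by norm_num) hm
    subst h5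
    exact hm
  have hS : ∀ m, 2 < m → sc G m = 0 ∨ sc G m = 20 ∨ sc G m = 24 := by
    intro m hm
    have hev := even_sc (G := G) hm
    rcases hmem m with h0 | h0
    · left; exact h0
    · simp only [Set.mem_insert_iff, Set.mem_singleton_iff] at h0
      rcases h0 with h0 | h0 | h0 | h0
      · rw [h0] at hev; exact absurd hev (by decide)
      · rw [h0] at hev; exact absurd hev (by decide)
      · right; left; exact h0
      · right; right; exact h0
  obtain ⟨n, hn⟩ : ∃ n, Nat.card G = n := ⟨_, rfl⟩
  have hnpos : 0 < n := by rw [← hn]; exact Nat.card_pos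
  have hprimes : ∀ p, p.Prime → p ∣ n → p = 2 ∨ (p = 3 ∧ sc G 3 = 20) ∨ (p = 5 ∧ sc G 5 = 24) := by
    intro p hp hpn
    by_cases hp2 : p = 2
    · left; exact hp2
    right
    have hp3 : 2 < p := lt_of_le_of_ne hp.two_le (Ne.symm hp2)
    have hpos := sc_prime_pos (G := G) hp (by rw [hn]; exact hpn)
    have hF := frobenius (G := G) (m := p) (by rw [hn]; exact hpn)
    rw [hp.divisors, Finset.sum_pair hp.one_lt.ne, sc_one] at hF
    have ht := totient_dvd_sc (G := G) p
    rw [Nat.totient_prime hp] at ht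
    rcases hS p hp3 with h0 | h0 | h0
    · omega
    · rw [h0] at hF ht
      have h21 : p ∣ 3 * 7 := by norm_num; exact hF
      rcases (Nat.Prime.dvd_mul hp).mp h21 with h3 | h7
      · have := (Nat.prime_dvd_prime_iff_eq hp Nat.prime_three).mp h3
        subst this
        left; exact ⟨rfl, h0⟩
      · have := (Nat.prime_dvd_prime_iff_eq hp (by norm_num)).mp h7
        subst this
        omega
    · rw [h0] at hF ht
      have h25 : p ∣ 5 ^ 2 := by norm_num; exact hF
      have := (Nat.prime_dvd_prime_iff_eq hp Nat.prime_five).mp (hp.dvd_of_dvd_pow h25)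
      subst this
      right; exact ⟨rfl, h0⟩
  have h3 : 3 ∣ n → sc G 3 = 20 := by
    intro h3n
    rcases hprimes 3 Nat.prime_three h3n with h5 | h5 | h5
    · omega
    · exact h5.2
    · omega
  have h5 : 5 ∣ n → sc G 5 = 24 := by
    intro h5n
    rcases hprimes 5 Nat.prime_five h5n with h6 | h6 | h6
    · omega
    · omega
    · exact h6.2
  obtain ⟨a, b, c, habc⟩ := exists_eq_pow_mul_pow_mul_pow n hnpos (by
    intro p hp hpn
    rcases hprimes p hp hpn with h6 | h6 | h6
    · exact Or.inl h6
    · exact Or.inr (Or.inl h6.1)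
    · exact Or.inr (Or.inr h6.1))
  have h2n : 2 ∣ n := by
    rw [← hn]; exact dvd_card_of_sc_pos (by rw [h2]; norm_num)
  -- the order is at least 60
  obtain ⟨m20, hm20, hm20pos⟩ := exists_sc_eq h (v := 20) (by simp)
  obtain ⟨m24, hm24, hm24pos⟩ := exists_sc_eq h (v := 24) (by simp)
  have hn60 : 60 ≤ n := by
    have h6 := sum_le_card (G := G) [1, 2, m20, m24] (by
      have e1 : m20 ≠ 1 := by rintro rfl; rw [sc_one] at hm20; omega
      have e2 : m20 ≠ 2 := by rintro rfl; rw [h2] at hm20; omega
      have e3 : m24 ≠ 1 := by rintro rfl; rw [sc_one] at hm24; omega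
      have e4 : m24 ≠ 2 := by rintro rfl; rw [h2] at hm24; omega
      have e5 : m20 ≠ m24 := by rintro rfl; omega
      simp only [List.nodup_cons, List.mem_cons, List.not_mem_nil, or_false, not_or,
        List.nodup_nil, and_true, not_false_eq_true]
      exact ⟨⟨by omega, Ne.symm e1, Ne.symm e3⟩, ⟨Ne.symm e2, Ne.symm e4⟩, e5⟩) (by
      intro m hm
      simp only [List.mem_cons, List.not_mem_nil, or_false] at hm
      rcases hm with rfl | rfl | rfl | rfl
      · rw [sc_one]; norm_num
      · rw [h2]; norm_num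
      · exact hm20pos
      · exact hm24pos)
    simp only [List.map, List.sum_cons, List.sum_nil, sc_one, h2, hm20, hm24] at h6
    omega
  -- totient restrictions
  have ht16 := totient_dvd_sc (G := G) 16
  have ht20 := totient_dvd_sc (G := G) 20
  have ht24 := totient_dvd_sc (G := G) 24
  have ht32 := totient_dvd_sc (G := G) 32
  have ht40 := totient_dvd_sc (G := G) 40
  have e16 : Nat.totient 16 = 8 := by decide
  have e20 : Nat.totient 20 = 8 := by decide
  have e24 : Nat.totient 24 = 8 := by decide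
  have e32 : Nat.totient 32 = 16 := by decide
  have e40 : Nat.totient 40 = 16 := by decide
  rw [e16] at ht16
  rw [e20] at ht20
  rw [e24] at ht24
  rw [e32] at ht32
  rw [e40] at ht40
  have hs32 : sc G 32 = 0 := by
    rcases hS 32 (by norm_num) with h0 | h0 | h0 <;> omega
  have hs40 : sc G 40 = 0 := by
    rcases hS 40 (by norm_num) with h0 | h0 | h0 <;> omega
  have hs64 : sc G 64 = 0 := sc_eq_zero_of_dvd hs32 (by norm_num)
  have hs80 : sc G 80 = 0 := sc_eq_zero_of_dvd hs40 (by norm_num)
  -- 25 does not divide the order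
  have hc1 : c ≤ 1 := by
    by_contra hc
    have h25 : 25 ∣ n := by
      rw [habc, mul_comm]; exact dvd_of_pow_le (p := 5) (k := 2) (by omega) _
    have h50 : 50 ∣ n := Nat.Coprime.mul_dvd_of_dvd_of_dvd (by norm_num : Nat.Coprime 2 25) h2n h25
    have hs5 := h5 (Dvd.dvd.trans (by norm_num) h25)
    have hF := frob_list (G := G) 25 [1, 5, 25] (by decide) (by decide) (by rw [hn]; exact h25)
    simp only [List.map, List.sum_cons, List.sum_nil, sc_one, hs5] at hF
    have hs25 : sc G 25 = 0 := by
      rcases hS 25 (by norm_num) with h0 | h0 | h0 <;> omega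
    have hs50 : sc G 50 = 0 := sc_eq_zero_of_dvd hs25 (by norm_num)
    have hF2 := frob_list (G := G) 50 [1, 2, 5, 10, 25, 50] (by decide) (by decide)
      (by rw [hn]; exact h50)
    simp only [List.map, List.sum_cons, List.sum_nil, sc_one, h2, hs5, hs25, hs50] at hF2
    rcases hS 10 (by norm_num) with h0 | h0 | h0 <;> omega
  -- 9 does not divide the order
  have hb1 : b ≤ 1 := by
    by_contra hb
    have h9 : 9 ∣ n := by
      rw [habc, mul_assoc, mul_comm, mul_assoc]
      exact dvd_of_pow_le (p := 3) (k := 2) (by omega) _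
    have hs3 := h3 (Dvd.dvd.trans (by norm_num) h9)
    have hF := frob_list (G := G) 9 [1, 3, 9] (by decide) (by decide) (by rw [hn]; exact h9)
    simp only [List.map, List.sum_cons, List.sum_nil, sc_one, hs3] at hF
    have hs9 : sc G 9 = 24 := by
      rcases hS 9 (by norm_num) with h0 | h0 | h0 <;> omega
    have hb2 : b = 2 := by
      by_contra hb2
      have h27 : 27 ∣ n := by
        rw [habc, mul_assoc, mul_comm, mul_assoc]
        exact dvd_of_pow_le (p := 3) (k := 3) (by omega) _
      have hF2 := frob_list (G := G) 27 [1, 3, 9, 27] (by decide) (by decide)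
        (by rw [hn]; exact h27)
      simp only [List.map, List.sum_cons, List.sum_nil, sc_one, hs3, hs9] at hF2
      rcases hS 27 (by norm_num) with h0 | h0 | h0 <;> omega
    have hpl := pow_lemma (G := G) Nat.prime_three 2 (2 ^ a * 5 ^ c) (le_refl 2)
      (by rw [hn, habc, hb2]; ring) (not_three_dvd_two_pow_mul_five_pow a c)
      (by rw [show (3 : ℕ) ^ 2 = 9 from rfl, hs9]; norm_num)
    rw [show (3 : ℕ) ^ 2 = 9 from rfl, show (3 : ℕ) ^ (2 - 1) = 3 from rfl, hs3, hs9] at hpl
    omega
  -- Sylow counting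
  have hbc : b = 1 ∧ c = 1 := by
    have hc5 : c = 1 → b = 1 := by
      intro hc
      obtain ⟨n5, hn5, hn5dvd, -⟩ := exists_sylow_count (G := G) (p := 5) (r := 2 ^ a * 3 ^ b)
        Nat.prime_five (by rw [hn, habc, hc]; ring) (not_five_dvd_two_pow_mul_three_pow a b)
      have hs5 := h5 (by rw [habc, hc]; exact Dvd.intro_left _ rfl)
      rw [hs5] at hn5
      have h6 : n5 = 6 := by omega
      rw [h6] at hn5dvd
      by_contra hb
      have hb0 : b = 0 := by omega
      rw [hb0, pow_zero, mul_one] at hn5dvd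
      have h7 : 3 ∣ 2 ^ a := Dvd.dvd.trans (by norm_num) hn5dvd
      have := Nat.Prime.dvd_of_dvd_pow Nat.prime_three h7
      omega
    have hb3 : b = 1 → c = 1 := by
      intro hb
      obtain ⟨n3, hn3, hn3dvd, -⟩ := exists_sylow_count (G := G) (p := 3) (r := 2 ^ a * 5 ^ c)
        Nat.prime_three (by rw [hn, habc, hb]; ring) (not_three_dvd_two_pow_mul_five_pow a c)
      have hs3 := h3 ⟨2 ^ a * 5 ^ c, by rw [habc, hb]; ring⟩
      rw [hs3] at hn3
      have h6 : n3 = 10 := by omega
      rw [h6] at hn3dvd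
      by_contra hc
      have hc0 : c = 0 := by omega
      rw [hc0, pow_zero, mul_one] at hn3dvd
      have h7 : 5 ∣ 2 ^ a := Dvd.dvd.trans (by norm_num) hn3dvd
      have := Nat.Prime.dvd_of_dvd_pow Nat.prime_five h7
      omega
    by_cases hb : b = 1
    · exact ⟨hb, hb3 hb⟩
    by_cases hc : c = 1
    · exact absurd (hc5 hc) hb
    exfalso
    have hb0 : b = 0 := by omega
    have hc0 : c = 0 := by omega
    rw [hb0, hc0, pow_zero, pow_zero, mul_one, mul_one] at habc
    -- a 2-group
    have ha6 : 6 ≤ a := by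
      by_contra ha
      have : 2 ^ a ≤ 2 ^ 5 := Nat.pow_le_pow_right (by norm_num) (by omega)
      omega
    have h64 : 64 ∣ Nat.card G := by
      rw [hn, habc]; exact pow_dvd_pow 2 ha6
    have hF := frob_list (G := G) 64 [1, 2, 4, 8, 16, 32, 64] (by decide) (by decide) h64
    simp only [List.map, List.sum_cons, List.sum_nil, sc_one, h2, hs32, hs64] at hF
    -- the value 20
    have hm20n : m20 ∣ 2 ^ a := by rw [← habc, ← hn]; exact dvd_card_of_sc_pos hm20pos
    obtain ⟨i, hi, rfl⟩ := (Nat.dvd_prime_pow Nat.prime_two).mp hm20n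
    have hti := totient_dvd_sc (G := G) (2 ^ i)
    have hi3 : i ≤ 3 := by
      by_contra hi3
      have h16 : 16 ∣ 2 ^ i := by
        have : (2 : ℕ) ^ 4 ∣ 2 ^ i := pow_dvd_pow 2 (by omega)
        exact this
      have hs16 : 0 < sc G 16 := sc_pos_of_dvd hm20pos h16
      have hi4 : i = 4 := by
        by_contra hi4
        have h32 : 32 ∣ 2 ^ i := by
          have : (2 : ℕ) ^ 5 ∣ 2 ^ i := pow_dvd_pow 2 (by omega)
          exact this
        have := sc_pos_of_dvd hm20pos h32
        omega
      rw [hi4] at hm20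
      norm_num at hm20
      omega
    have hi2 : 2 ≤ i := by
      by_contra hi2
      have : i = 0 ∨ i = 1 := by omega
      rcases this with rfl | rfl
      · rw [pow_zero, sc_one] at hm20; omega
      · rw [pow_one, h2] at hm20; omega
    have hi23 : i = 2 ∨ i = 3 := by omega
    rcases hS 4 (by norm_num) with h4 | h4 | h4 <;> rcases hS 8 (by norm_num) with h8 | h8 | h8 <;>
      rcases hS 16 (by norm_num) with h16 | h16 | h16 <;> rcases hi23 with rfl | rfl <;>
      norm_num at hm20 <;> omega
  obtain ⟨hb, hc⟩ := hbc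
  rw [hb, hc, pow_one, pow_one] at habc
  have hs3 := h3 ⟨2 ^ a * 5, by rw [habc]; ring⟩
  have hs5 := h5 (by rw [habc]; exact Dvd.intro_left _ rfl)
  -- the 2-part
  have ha3 : a ≤ 3 := by
    by_contra ha
    have h16 : 16 ∣ n := by
      rw [habc, mul_assoc]; exact dvd_of_pow_le (p := 2) (k := 4) (by omega) _
    have h80 : 80 ∣ n := by
      have h5n : 5 ∣ n := by rw [habc]; exact Dvd.intro_left _ rfl
      exact Nat.Coprime.mul_dvd_of_dvd_of_dvd (by norm_num : Nat.Coprime 16 5) h16 h5n
    have hF := frob_list (G := G) 16 [1, 2, 4, 8, 16] (by decide) (by decide)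
      (by rw [hn]; exact h16)
    have hF2 := frob_list (G := G) 80 [1, 2, 4, 5, 8, 10, 16, 20, 40, 80] (by decide) (by decide)
      (by rw [hn]; exact h80)
    simp only [List.map, List.sum_cons, List.sum_nil, sc_one, h2] at hF
    simp only [List.map, List.sum_cons, List.sum_nil, sc_one, h2, hs5, hs40, hs80] at hF2
    rcases hS 4 (by norm_num) with h4 | h4 | h4 <;> rcases hS 8 (by norm_num) with h8 | h8 | h8 <;>
      rcases hS 16 (by norm_num) with h16' | h16' | h16' <;>
      rcases hS 10 (by norm_num) with h10 | h10 | h10 <;>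
      rcases hS 20 (by norm_num) with h20 | h20 | h20 <;> omega
  have ha2 : 2 ≤ a := by
    by_contra ha
    have : 2 ^ a ≤ 2 ^ 1 := Nat.pow_le_pow_right (by norm_num) (by omega)
    omega
  have ha23 : a = 2 ∨ a = 3 := by omega
  rcases ha23 with rfl | rfl
  · norm_num at habc
    rw [habc] at hn
    exact ⟨hn, hs5⟩
  · exfalso
    norm_num at habc
    subst habc
    have hF8 := frob_list (G := G) 8 [1, 2, 4, 8] (by decide) (by decide)
      (by rw [hn]; norm_num)
    have hF40 := frob_list (G := G) 40 [1, 2, 4, 5, 8, 10, 20, 40] (by decide) (by decide)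
      (by rw [hn]; norm_num)
    have hF24 := frob_list (G := G) 24 [1, 2, 3, 4, 6, 8, 12, 24] (by decide) (by decide)
      (by rw [hn]; norm_num)
    simp only [List.map, List.sum_cons, List.sum_nil, sc_one, h2] at hF8
    simp only [List.map, List.sum_cons, List.sum_nil, sc_one, h2, hs5, hs40] at hF40
    simp only [List.map, List.sum_cons, List.sum_nil, sc_one, h2, hs3] at hF24
    -- the Sylow 2-subgroups have order 8
    have hpl : 0 < sc G 8 → 2 * sc G 4 ≤ sc G 8 := by
      intro hpos
      have := pow_lemma (G := G) Nat.prime_two 3 15 (by norm_num) (by rw [hn]; norm_num)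
        (by norm_num) (by rw [show (2 : ℕ) ^ 3 = 8 from rfl]; exact hpos)
      rw [show (2 : ℕ) ^ 3 = 8 from rfl, show (2 : ℕ) ^ (3 - 1) = 4 from rfl] at this
      exact this
    have h48 : (sc G 4 = 0 ∧ sc G 8 = 0) ∨ (sc G 4 = 20 ∧ sc G 8 = 20) := by
      rcases hS 4 (by norm_num) with h4 | h4 | h4 <;>
        rcases hS 8 (by norm_num) with h8 | h8 | h8 <;>
        rcases hS 10 (by norm_num) with h10 | h10 | h10 <;>
        rcases hS 20 (by norm_num) with h20 | h20 | h20 <;> omega
    rcases h48 with ⟨h4, h8⟩ | ⟨h4, h8⟩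
    · rw [h4, h8] at hF24
      rcases hS 6 (by norm_num) with h6 | h6 | h6 <;>
        rcases hS 12 (by norm_num) with h12 | h12 | h12 <;>
        rcases hS 24 (by norm_num) with h24 | h24 | h24 <;> omega
    · have := hpl (by rw [h8]; norm_num)
      omega

end Cfsg.Agent.Lib.Helper5.NSE
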