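import Mathlib
import Cfsg.Agent.Lib.Helper5.NSE.CaseA5

/-!
# Groups with `nse(G) = {1, 45, 80, 90, 144}` have order 360
-/

set_option autoImplicit false

namespace Cfsg.Agent.Lib.Helper5.NSE

variable {G : Type*} [Group G] [Finite G]

theorem not_five_dvd_two_pow_mul_three_pow' (a b : ℕ) : ¬ 5 ∣ 2 ^ a * 3 ^ b :=
  not_five_dvd_two_pow_mul_three_pow a b

set_option synthInstance.maxSize 4000 in
set_option synthInstance.maxHeartbeats 400000 in
theorem abc_eq : ∀ a < 4, ∀ b < 4, ∀ c < 2, ¬ (b = 3 ∧ c = 1) → 360 ≤ 2 ^ a * 3 ^ b * 5 ^ c →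
    a = 3 ∧ b = 2 ∧ c = 1 := by decide

theorem card_eq_360_of_nse
    (h : (fun m : ℕ => Nat.card {g : G // orderOf g = m}) '' Set.range (orderOf : G → ℕ) =
      {1, 45, 80, 90, 144}) :
    Nat.card G = 360 ∧ sc G 3 = 80 ∧ sc G 5 = 144 ∧ ∀ m, 0 < sc G m → m ≤ 5 := by
  have hmem := sc_eq_zero_or_mem h
  have h2 : sc G 2 = 45 := by
    obtain ⟨m, hm, -⟩ := exists_sc_eq h (v := 45) (by simp)
    have h5 := eq_two_of_odd_sc (by decide) (by norm_num) hm
    subst h5
    exact hm
  have hS : ∀ m, 2 < m → sc G m = 0 ∨ sc G m = 80 ∨ sc G m = 90 ∨ sc G m = 144 := by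
    intro m hm
    have hev := even_sc (G := G) hm
    rcases hmem m with h0 | h0
    · left; exact h0
    · simp only [Set.mem_insert_iff, Set.mem_singleton_iff] at h0
      rcases h0 with h0 | h0 | h0 | h0 | h0
      · rw [h0] at hev; exact absurd hev (by decide)
      · rw [h0] at hev; exact absurd hev (by decide)
      · right; left; exact h0
      · right; right; left; exact h0
      · right; right; right; exact h0
  obtain ⟨n, hn⟩ : ∃ n, Nat.card G = n := ⟨_, rfl⟩
  have hnpos : 0 < n := by rw [← hn]; exact Nat.card_pos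
  have hprimes : ∀ p, p.Prime → p ∣ n → p = 2 ∨ (p = 3 ∧ sc G 3 = 80) ∨
      (p = 5 ∧ sc G 5 = 144) ∨ (p = 7 ∧ sc G 7 = 90) := by
    intro p hp hpn
    by_cases hp2 : p = 2
    · left; exact hp2
    right
    have hp3 : 2 < p := lt_of_le_of_ne hp.two_le (Ne.symm hp2)
    have hpos := sc_prime_pos (G := G) hp (by rw [hn]; exact hpn)
    have hF := frobenius (G := G) (m := p) (by rw [hn]; exact hpn)
    rw [hp.divisors, Finset.sum_pair hp.one_lt.ne, sc_one] at hF
    have ht := totient_dvd_sc (G := G) p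
    rw [Nat.totient_prime hp] at ht
    rcases hS p hp3 with h0 | h0 | h0 | h0
    · omega
    · rw [h0] at hF ht
      have h81 : p ∣ 3 ^ 4 := by norm_num; exact hF
      have := (Nat.prime_dvd_prime_iff_eq hp Nat.prime_three).mp (hp.dvd_of_dvd_pow h81)
      subst this
      left; exact ⟨rfl, h0⟩
    · rw [h0] at hF ht
      have h91 : p ∣ 7 * 13 := by norm_num; exact hF
      rcases (Nat.Prime.dvd_mul hp).mp h91 with h7 | h13
      · have := (Nat.prime_dvd_prime_iff_eq hp (by norm_num)).mp h7
        subst this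
        right; right; exact ⟨rfl, h0⟩
      · have := (Nat.prime_dvd_prime_iff_eq hp (by norm_num)).mp h13
        subst this
        omega
    · rw [h0] at hF ht
      have h145 : p ∣ 5 * 29 := by norm_num; exact hF
      rcases (Nat.Prime.dvd_mul hp).mp h145 with h5 | h29
      · have := (Nat.prime_dvd_prime_iff_eq hp Nat.prime_five).mp h5
        subst this
        right; left; exact ⟨rfl, h0⟩
      · have := (Nat.prime_dvd_prime_iff_eq hp (by norm_num)).mp h29
        subst this
        omega
  have h3 : 3 ∣ n → sc G 3 = 80 := by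
    intro h3n
    rcases hprimes 3 Nat.prime_three h3n with h5 | h5 | h5 | h5
    · omega
    · exact h5.2
    · omega
    · omega
  have h5 : 5 ∣ n → sc G 5 = 144 := by
    intro h5n
    rcases hprimes 5 Nat.prime_five h5n with h6 | h6 | h6 | h6
    · omega
    · omega
    · exact h6.2
    · omega
  -- 7 does not divide the order
  have h7 : ¬ 7 ∣ n := by
    intro h7n
    have hs7 : sc G 7 = 90 := by
      rcases hprimes 7 (by norm_num) h7n with h6 | h6 | h6 | h6
      · omega
      · omega
      · omega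
      · exact h6.2
    have h49 : ¬ 49 ∣ n := by
      intro h49
      have hF := frob_list (G := G) 49 [1, 7, 49] (by decide) (by decide) (by rw [hn]; exact h49)
      simp only [List.map, List.sum_cons, List.sum_nil, sc_one, hs7] at hF
      have ht49 := totient_dvd_sc (G := G) 49
      rw [show Nat.totient 49 = 42 by decide] at ht49
      rcases hS 49 (by norm_num) with h0 | h0 | h0 | h0 <;> omega
    obtain ⟨r, hr⟩ := h7n
    have h7r : ¬ 7 ∣ r := by
      rintro ⟨r', rfl⟩
      exact h49 ⟨r', by rw [hr]; ring⟩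
    obtain ⟨n7, hn7, hn7dvd, -⟩ := exists_sylow_count (G := G) (p := 7) (r := r)
      (by norm_num) (by rw [hn, hr]) h7r
    rw [hs7] at hn7
    have h6 : n7 = 15 := by omega
    rw [h6] at hn7dvd
    have h5n : 5 ∣ n := by
      rw [hr]; exact Dvd.dvd.mul_left (Dvd.dvd.trans (by norm_num) hn7dvd) 7
    have h35 : 35 ∣ n :=
      Nat.Coprime.mul_dvd_of_dvd_of_dvd (by norm_num : Nat.Coprime 5 7) h5n ⟨r, hr⟩
    have hs5 := h5 h5n
    have hF := frob_list (G := G) 35 [1, 5, 7, 35] (by decide) (by decide) (by rw [hn]; exact h35)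
    simp only [List.map, List.sum_cons, List.sum_nil, sc_one, hs5, hs7] at hF
    have ht35 := totient_dvd_sc (G := G) 35
    rw [show Nat.totient 35 = 24 by decide] at ht35
    rcases hS 35 (by norm_num) with h0 | h0 | h0 | h0 <;> omega
  obtain ⟨a, b, c, habc⟩ := exists_eq_pow_mul_pow_mul_pow n hnpos (by
    intro p hp hpn
    rcases hprimes p hp hpn with h6 | h6 | h6 | h6
    · exact Or.inl h6
    · exact Or.inr (Or.inl h6.1)
    · exact Or.inr (Or.inr h6.1)
    · exfalso; rw [h6.1] at hpn; exact h7 hpn)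
  have h2n : 2 ∣ n := by
    rw [← hn]; exact dvd_card_of_sc_pos (by rw [h2]; norm_num)
  -- the order is at least 360
  obtain ⟨m80, hm80, hm80pos⟩ := exists_sc_eq h (v := 80) (by simp)
  obtain ⟨m90, hm90, hm90pos⟩ := exists_sc_eq h (v := 90) (by simp)
  obtain ⟨m144, hm144, hm144pos⟩ := exists_sc_eq h (v := 144) (by simp)
  have hn360 : 360 ≤ n := by
    have h6 := sum_le_card (G := G) [1, 2, m80, m90, m144] (by
      have e1 : m80 ≠ 1 := by rintro rfl; rw [sc_one] at hm80; omega
      have e2 : m80 ≠ 2 := by rintro rfl; rw [h2] at hm80; omega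
      have e3 : m90 ≠ 1 := by rintro rfl; rw [sc_one] at hm90; omega
      have e4 : m90 ≠ 2 := by rintro rfl; rw [h2] at hm90; omega
      have e5 : m144 ≠ 1 := by rintro rfl; rw [sc_one] at hm144; omega
      have e6 : m144 ≠ 2 := by rintro rfl; rw [h2] at hm144; omega
      have e7 : m80 ≠ m90 := by rintro rfl; omega
      have e8 : m80 ≠ m144 := by rintro rfl; omega
      have e9 : m90 ≠ m144 := by rintro rfl; omega
      simp only [List.nodup_cons, List.mem_cons, List.not_mem_nil, or_false, not_or,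
        List.nodup_nil, and_true, not_false_eq_true]
      exact ⟨⟨by omega, Ne.symm e1, Ne.symm e3, Ne.symm e5⟩, ⟨Ne.symm e2, Ne.symm e4, Ne.symm e6⟩,
        ⟨e7, e8⟩, e9⟩) (by
      intro m hm
      simp only [List.mem_cons, List.not_mem_nil, or_false] at hm
      rcases hm with rfl | rfl | rfl | rfl | rfl
      · rw [sc_one]; norm_num
      · rw [h2]; norm_num
      · exact hm80pos
      · exact hm90pos
      · exact hm144pos)
    simp only [List.map, List.sum_cons, List.sum_nil, sc_one, h2, hm80, hm90, hm144] at h6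
    omega
  -- the 2-part
  have ha3 : a ≤ 3 := by
    by_contra ha
    have h16 : 16 ∣ n := by
      rw [habc, mul_assoc]; exact dvd_of_pow_le (p := 2) (k := 4) (by omega) _
    have h4 : 4 ∣ n := Dvd.dvd.trans (by norm_num) h16
    have hF4 := frob_list (G := G) 4 [1, 2, 4] (by decide) (by decide) (by rw [hn]; exact h4)
    have hF := frob_list (G := G) 16 [1, 2, 4, 8, 16] (by decide) (by decide)
      (by rw [hn]; exact h16)
    simp only [List.map, List.sum_cons, List.sum_nil, sc_one, h2] at hF4 hF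
    have ht8 := totient_dvd_sc (G := G) 8
    have ht16 := totient_dvd_sc (G := G) 16
    rw [show Nat.totient 8 = 4 by decide] at ht8
    rw [show Nat.totient 16 = 8 by decide] at ht16
    rcases hS 4 (by norm_num) with h4' | h4' | h4' | h4' <;>
      rcases hS 8 (by norm_num) with h8 | h8 | h8 | h8 <;>
      rcases hS 16 (by norm_num) with h16' | h16' | h16' | h16' <;> omega
  -- the 5-part
  have hc1 : c ≤ 1 := by
    by_contra hc
    have h25 : 25 ∣ n := by
      rw [habc, mul_comm]; exact dvd_of_pow_le (p := 5) (k := 2) (by omega) _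
    have hs5 := h5 (Dvd.dvd.trans (by norm_num) h25)
    have hF := frob_list (G := G) 25 [1, 5, 25] (by decide) (by decide) (by rw [hn]; exact h25)
    simp only [List.map, List.sum_cons, List.sum_nil, sc_one, hs5] at hF
    have ht25 := totient_dvd_sc (G := G) 25
    rw [show Nat.totient 25 = 20 by decide] at ht25
    have hs25 : sc G 25 = 80 := by
      rcases hS 25 (by norm_num) with h0 | h0 | h0 | h0 <;> omega
    have hc2 : c = 2 := by
      by_contra hc2
      have h125 : 125 ∣ n := by
        rw [habc, mul_comm]; exact dvd_of_pow_le (p := 5) (k := 3) (by omega) _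
      have hF2 := frob_list (G := G) 125 [1, 5, 25, 125] (by decide) (by decide)
        (by rw [hn]; exact h125)
      simp only [List.map, List.sum_cons, List.sum_nil, sc_one, hs5, hs25] at hF2
      have ht125 := totient_dvd_sc (G := G) 125
      rw [show Nat.totient 125 = 100 by decide] at ht125
      rcases hS 125 (by norm_num) with h0 | h0 | h0 | h0 <;> omega
    have hpl := pow_lemma (G := G) Nat.prime_five 2 (2 ^ a * 3 ^ b) (le_refl 2)
      (by rw [hn, habc, hc2]; ring) (not_five_dvd_two_pow_mul_three_pow a b)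
      (by rw [show (5 : ℕ) ^ 2 = 25 from rfl, hs25]; norm_num)
    rw [show (5 : ℕ) ^ 2 = 25 from rfl, show (5 : ℕ) ^ (2 - 1) = 5 from rfl, hs5, hs25] at hpl
    omega
  -- no elements of order 9
  have hs9 : 9 ∣ n → sc G 9 = 0 := by
    intro h9
    have hs3 := h3 (Dvd.dvd.trans (by norm_num) h9)
    have ht9 := totient_dvd_sc (G := G) 9
    rw [show Nat.totient 9 = 6 by decide] at ht9
    by_cases h27 : 27 ∣ n
    · have hF := frob_list (G := G) 27 [1, 3, 9, 27] (by decide) (by decide)
        (by rw [hn]; exact h27)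
      simp only [List.map, List.sum_cons, List.sum_nil, sc_one, hs3] at hF
      have ht27 := totient_dvd_sc (G := G) 27
      rw [show Nat.totient 27 = 18 by decide] at ht27
      rcases hS 9 (by norm_num) with h0 | h0 | h0 | h0 <;>
        rcases hS 27 (by norm_num) with h1 | h1 | h1 | h1 <;> omega
    · have hb2 : b = 2 := by
        have hb2 : 2 ≤ b := by
          by_contra hb
          have hb' : b = 0 ∨ b = 1 := by omega
          have h9' : 9 ∣ 2 ^ a * 3 ^ b * 5 ^ c := by rw [← habc]; exact h9
          have hcop : Nat.Coprime 9 (2 ^ a) := Nat.Coprime.pow_right a (by norm_num)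
          have hcop5 : Nat.Coprime 9 (5 ^ c) := Nat.Coprime.pow_right c (by norm_num)
          have h9'' : 9 ∣ 3 ^ b := by
            have := hcop5.dvd_of_dvd_mul_right h9'
            exact hcop.dvd_of_dvd_mul_left this
          rcases hb' with rfl | rfl
          · norm_num at h9''
          · norm_num at h9''
        by_contra hb3
        apply h27
        rw [habc, mul_assoc, mul_comm, mul_assoc]
        exact dvd_of_pow_le (p := 3) (k := 3) (by omega) _
      by_contra h0
      have hpos : 0 < sc G 9 := Nat.pos_of_ne_zero h0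
      have hpl := pow_lemma (G := G) Nat.prime_three 2 (2 ^ a * 5 ^ c) (le_refl 2)
        (by rw [hn, habc, hb2]; ring) (not_three_dvd_two_pow_mul_five_pow a c)
        (by rw [show (3 : ℕ) ^ 2 = 9 from rfl]; exact hpos)
      rw [show (3 : ℕ) ^ 2 = 9 from rfl, show (3 : ℕ) ^ (2 - 1) = 3 from rfl, hs3] at hpl
      rcases hS 9 (by norm_num) with h1 | h1 | h1 | h1 <;> omega
  -- the 3-part
  have hb3 : b ≤ 3 := by
    by_contra hb
    have h81 : 81 ∣ n := by
      rw [habc, mul_assoc, mul_comm, mul_assoc]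
      exact dvd_of_pow_le (p := 3) (k := 4) (by omega) _
    have h162 : 162 ∣ n :=
      Nat.Coprime.mul_dvd_of_dvd_of_dvd (by norm_num : Nat.Coprime 2 81) h2n h81
    have hs3 := h3 (Dvd.dvd.trans (by norm_num) h81)
    have h9 := hs9 (Dvd.dvd.trans (by norm_num) h81)
    have hF := frob_list (G := G) 162 [1, 2, 3, 6, 9, 18, 27, 54, 81, 162] (by decide) (by decide)
      (by rw [hn]; exact h162)
    simp only [List.map, List.sum_cons, List.sum_nil, sc_one, h2, hs3, h9,
      sc_eq_zero_of_dvd h9 (show 9 ∣ 18 by norm_num), sc_eq_zero_of_dvd h9 (show 9 ∣ 27 by norm_num),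
      sc_eq_zero_of_dvd h9 (show 9 ∣ 54 by norm_num), sc_eq_zero_of_dvd h9 (show 9 ∣ 81 by norm_num),
      sc_eq_zero_of_dvd h9 (show 9 ∣ 162 by norm_num)] at hF
    rcases hS 6 (by norm_num) with h0 | h0 | h0 | h0 <;> omega
  have hb3c : ¬ (b = 3 ∧ c = 1) := by
    rintro ⟨hb, hc⟩
    have h135 : 135 ∣ n := ⟨2 ^ a, by rw [habc, hb, hc]; ring⟩
    have hs3 := h3 (Dvd.dvd.trans (by norm_num) h135)
    have hs5 := h5 (Dvd.dvd.trans (by norm_num) h135)
    have h9 := hs9 (Dvd.dvd.trans (by norm_num) h135)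
    have hF := frob_list (G := G) 135 [1, 3, 5, 9, 15, 27, 45, 135] (by decide) (by decide)
      (by rw [hn]; exact h135)
    simp only [List.map, List.sum_cons, List.sum_nil, sc_one, hs3, hs5, h9,
      sc_eq_zero_of_dvd h9 (show 9 ∣ 27 by norm_num), sc_eq_zero_of_dvd h9 (show 9 ∣ 45 by norm_num),
      sc_eq_zero_of_dvd h9 (show 9 ∣ 135 by norm_num)] at hF
    have ht15 := totient_dvd_sc (G := G) 15
    rw [show Nat.totient 15 = 8 by decide] at ht15
    rcases hS 15 (by norm_num) with h0 | h0 | h0 | h0 <;> omega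
  -- the order
  have habc' : a = 3 ∧ b = 2 ∧ c = 1 := by
    exact abc_eq a (by omega) b (by omega) c (by omega) hb3c (by rw [← habc]; exact hn360)
  obtain ⟨rfl, rfl, rfl⟩ := habc'
  norm_num at habc
  subst habc
  have hs3 := h3 (by norm_num)
  have hs5 := h5 (by norm_num)
  have hF4 := frob_list (G := G) 4 [1, 2, 4] (by decide) (by decide) (by rw [hn]; norm_num)
  simp only [List.map, List.sum_cons, List.sum_nil, sc_one, h2] at hF4
  have hs4 : sc G 4 = 90 := by
    rcases hS 4 (by norm_num) with h0 | h0 | h0 | h0 <;> omega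
  have hT := card_eq_list (G := G) 360
    [1, 2, 3, 4, 5, 6, 8, 9, 10, 12, 15, 18, 20, 24, 30, 36, 40, 45, 60, 72, 90, 120, 180, 360]
    (by decide) (by decide +kernel) hn
  simp only [List.map, List.sum_cons, List.sum_nil, sc_one, h2, hs3, hs4, hs5] at hT
  refine ⟨hn, hs3, hs5, ?_⟩
  intro m hm
  have hmn : m ∈ Nat.divisors 360 :=
    Nat.mem_divisors.mpr ⟨by rw [← hn]; exact dvd_card_of_sc_pos hm, by norm_num⟩
  have hd : Nat.divisors 360 = {1, 2, 3, 4, 5, 6, 8, 9, 10, 12, 15, 18, 20, 24, 30, 36, 40, 45,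
      60, 72, 90, 120, 180, 360} := by decide +kernel
  rw [hd] at hmn
  simp only [Finset.mem_insert, Finset.mem_singleton] at hmn
  rcases hmn with rfl | rfl | rfl | rfl | rfl | rfl | rfl | rfl | rfl | rfl | rfl | rfl | rfl |
    rfl | rfl | rfl | rfl | rfl | rfl | rfl | rfl | rfl | rfl | rfl <;> omega

end Cfsg.Agent.Lib.Helper5.NSE
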