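import Mathlib
import Cfsg.Agent.Lib.Helper5.NSE.Basic2

/-!
# A group of order 12 with 8 elements of order 3 is `A₄`
-/

set_option autoImplicit false

namespace Cfsg.Agent.Lib.Helper5.NSE

open Cfsg.Agent.Lib.Lead.SylowCount

variable {G : Type*} [Group G] [Finite G]

theorem iso_A4_of_card_twelve (hn : Nat.card G = 12) (h3 : sc G 3 = 8) :
    Nonempty (G ≃* ↥(alternatingGroup (Fin 4))) := by
  classical
  have : Fact (Nat.Prime 3) := ⟨Nat.prime_three⟩
  have hc : ∀ P : Sylow 3 G, Nat.card (P : Subgroup G) = 3 := fun P => by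
    have := card_sylow_of_card_eq_pow 3 1 4 (by rw [hn]; norm_num) (by norm_num) P
    rwa [pow_one] at this
  have hn3 : Nat.card (Sylow 3 G) = 4 := by
    have h5 := sc_prime_eq 3 hc
    rw [h3] at h5
    omega
  have : Fintype (Sylow 3 G) := Fintype.ofFinite _
  have hX : Fintype.card (Sylow 3 G) = 4 := by rw [← Nat.card_eq_fintype_card, hn3]
  -- normalizers
  have hN : ∀ P : Sylow 3 G, Subgroup.normalizer ((P : Subgroup G) : Set G) = (P : Subgroup G) := by
    intro P
    have h5 : Nat.card (Sylow 3 G) *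
        Nat.card (Subgroup.normalizer ((P : Subgroup G) : Set G)) = Nat.card G :=
      card_sylow_mul_card_normalizer 3 P
    rw [hn3, hn] at h5
    symm
    apply Subgroup.eq_of_le_of_card_ge Subgroup.le_normalizer
    rw [hc P]
    omega
  -- the action is faithful
  have hinj : Function.Injective (MulAction.toPermHom G (Sylow 3 G)) := by
    rw [← MonoidHom.ker_eq_bot_iff, eq_bot_iff]
    intro g hg
    rw [MonoidHom.mem_ker] at hg
    have hfix : ∀ P : Sylow 3 G, g ∈ (P : Subgroup G) := by
      intro P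
      have h5 : g • P = P := by
        have := congrArg (fun σ : Equiv.Perm (Sylow 3 G) => σ P) hg
        simpa using this
      have h6 : g ∈ Subgroup.normalizer ((P : Subgroup G) : Set G) :=
        Sylow.smul_eq_iff_mem_normalizer.mp h5
      rw [hN P] at h6
      exact h6
    obtain ⟨P, Q, hPQ⟩ : ∃ P Q : Sylow 3 G, P ≠ Q := by
      have h1 : 1 < Fintype.card (Sylow 3 G) := by rw [hX]; norm_num
      obtain ⟨P, Q, hPQ⟩ := Fintype.exists_pair_of_one_lt_card h1
      exact ⟨P, Q, hPQ⟩
    have hTI := Cfsg.Agent.Lib.Helper4.sylow_TI_of_card_prime 3 hc P Q hPQ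
    rw [Subgroup.mem_bot]
    have h5 : g ∈ (P : Subgroup G) ⊓ (Q : Subgroup G) := ⟨hfix P, hfix Q⟩
    rw [hTI, Subgroup.mem_bot] at h5
    exact h5
  -- the image has index 2
  have hrange : (MulAction.toPermHom G (Sylow 3 G)).range = alternatingGroup (Sylow 3 G) := by
    apply Equiv.Perm.eq_alternatingGroup_of_index_eq_two
    have h5 := Subgroup.card_mul_index (MulAction.toPermHom G (Sylow 3 G)).range
    have h6 : Nat.card ↥(MulAction.toPermHom G (Sylow 3 G)).range = 12 := by
      rw [← hn]
      exact (Nat.card_congr (MonoidHom.ofInjective hinj).toEquiv).symm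
    have h7 : Nat.card (Equiv.Perm (Sylow 3 G)) = 24 := by
      rw [Nat.card_eq_fintype_card, Fintype.card_perm, hX]
      rfl
    rw [h6, h7] at h5
    omega
  exact ⟨(MonoidHom.ofInjective hinj).trans ((MulEquiv.subgroupCongr hrange).trans
    (Equiv.altCongrHom (Fintype.equivFinOfCardEq hX)))⟩

end Cfsg.Agent.Lib.Helper5.NSE
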