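import Mathlib
import Cfsg.Agent.Lib.Helper5.NSE.Basic2
import Cfsg.Agent.Lib.Helper5.Ord.Tools2
import Cfsg.Agent.Lib.Helper4.Simple60
import Cfsg.Agent.S0497

/-!
# The last steps for `A₅` and `A₆`

* a group of order 60 with 24 elements of order 5 is `A₅`;
* a group of order 360 with 80 elements of order 3, 144 elements of order 5 and no element of order
  greater than 5 is simple, hence `A₆`.
-/

set_option autoImplicit false

namespace Cfsg.Agent.Lib.Helper5.NSE

open Cfsg.Agent.Lib.Lead.SylowCount Cfsg.Agent.Lib.Helper5.Ord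

variable {G : Type*} [Group G] [Finite G]

theorem iso_A5_of_card_sixty (hn : Nat.card G = 60) (h5 : sc G 5 = 24) :
    Nonempty (G ≃* ↥(alternatingGroup (Fin 5))) := by
  have : Fact (Nat.Prime 5) := ⟨Nat.prime_five⟩
  have hc : ∀ P : Sylow 5 G, Nat.card (P : Subgroup G) = 5 := fun P => by
    have := card_sylow_of_card_eq_pow 5 1 12 (by rw [hn]; norm_num) (by norm_num) P
    rwa [pow_one] at this
  have hn5 : Nat.card (Sylow 5 G) = 6 := by
    have h6 := sc_prime_eq 5 hc
    rw [h5] at h6
    omega
  obtain ⟨P⟩ : Nonempty (Sylow 5 G) := inferInstance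
  have hP : ¬ (P : Subgroup G).Normal := by
    intro hnor
    have := Sylow.unique_of_normal P hnor
    have h6 : Nat.card (Sylow 5 G) = 1 := Nat.card_unique
    omega
  have := Cfsg.Agent.Lib.Helper4.Sixty.isSimpleGroup_of_card_sixty hn P hP
  exact Cfsg.Agent.Lib.Helper4.simple_sixty_iso hn

omit [Finite G] in
/-- elements of order prime to the index of a normal subgroup lie in it -/
theorem mem_of_coprime_index (N : Subgroup G) [N.Normal] (g : G)
    (h : Nat.Coprime (orderOf g) N.index) : g ∈ N := by
  rw [← QuotientGroup.eq_one_iff]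
  have h1 : orderOf (g : G ⧸ N) ∣ orderOf g := by
    apply orderOf_dvd_of_pow_eq_one
    rw [← QuotientGroup.mk_pow, pow_orderOf_eq_one, QuotientGroup.mk_one]
  have h2 : orderOf (g : G ⧸ N) ∣ N.index := by
    rw [Subgroup.index_eq_card]
    exact orderOf_dvd_natCard _
  have h3 : orderOf (g : G ⧸ N) = 1 :=
    Nat.eq_one_of_dvd_coprimes h h1 h2
  exact orderOf_eq_one_iff.mp h3

/-- an element `y` of order 5 permutes semiregularly every set of nonidentity elements of a normal
subgroup of order prime to 5, if no element has order greater than 5 -/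
theorem five_dvd_ncard (hord : ∀ g : G, orderOf g ≤ 5) (y : G) (hy : orderOf y = 5)
    (N : Subgroup G) (h5d : ¬ 5 ∣ Nat.card N) (Y : Set G) (hYN : ∀ x ∈ Y, x ∈ N ∧ x ≠ 1)
    (hYinv : ∀ c x : G, x ∈ Y → c * x * c⁻¹ ∈ Y) : 5 ∣ Y.ncard := by
  have : Finite (ConjAct G) := Finite.of_equiv G ConjAct.toConjAct.toEquiv
  have hHcard : Nat.card (Subgroup.zpowers (ConjAct.toConjAct y)) = 5 := by
    rw [Nat.card_zpowers, MulEquiv.orderOf_eq, hy]
  apply dvd_ncard_of_forall_dvd_card_orbit (H := ↥(Subgroup.zpowers (ConjAct.toConjAct y)))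
    (X := G) 5 Y
  · intro h x hx
    rw [Subgroup.smul_def, ConjAct.smul_def]
    exact hYinv _ x hx
  · intro x hx
    rw [Nat.card_coe_set_eq, ← MulAction.index_stabilizer]
    have h1 := Subgroup.card_mul_index
      (MulAction.stabilizer ↥(Subgroup.zpowers (ConjAct.toConjAct y)) x)
    rw [hHcard] at h1
    have h2 : Nat.card ↥(MulAction.stabilizer ↥(Subgroup.zpowers (ConjAct.toConjAct y)) x) ∣ 5 :=
      Dvd.intro _ h1
    rcases (Nat.dvd_prime Nat.prime_five).mp h2 with h3 | h3
    · rw [h3, one_mul] at h1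
      rw [h1]
    · exfalso
      have htop : MulAction.stabilizer ↥(Subgroup.zpowers (ConjAct.toConjAct y)) x = ⊤ := by
        rw [← Subgroup.card_eq_iff_eq_top, h3, hHcard]
      have hmem : (⟨ConjAct.toConjAct y, Subgroup.mem_zpowers _⟩ :
          ↥(Subgroup.zpowers (ConjAct.toConjAct y))) ∈
          MulAction.stabilizer ↥(Subgroup.zpowers (ConjAct.toConjAct y)) x := by
        rw [htop]; trivial
      rw [MulAction.mem_stabilizer_iff, Subgroup.smul_def, ConjAct.smul_def] at hmem
      simp only [ConjAct.ofConjAct_toConjAct] at hmem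
      have hcomm : Commute x y := by
        have h4 : y * x = x * y := by
          calc y * x = y * x * y⁻¹ * y := by group
            _ = x * y := by rw [hmem]
        exact h4.symm
      have hxN := (hYN x hx).1
      have hx1 := (hYN x hx).2
      have hox : orderOf x ∣ Nat.card N := Subgroup.orderOf_dvd_natCard N hxN
      have hcop : Nat.Coprime (orderOf x) (orderOf y) := by
        rw [hy]
        apply Nat.Coprime.symm
        rw [Nat.Prime.coprime_iff_not_dvd Nat.prime_five]
        exact fun h => h5d (h.trans hox)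
      have h5 := hcomm.orderOf_mul_eq_mul_orderOf_of_coprime hcop
      have h6 := hord (x * y)
      rw [h5, hy] at h6
      have h7 : 2 ≤ orderOf x := by
        have h8 : orderOf x ≠ 1 := fun h => hx1 (orderOf_eq_one_iff.mp h)
        have h9 := orderOf_pos x
        omega
      omega

theorem isSimpleGroup_of_card_360 (hn : Nat.card G = 360) (h3 : sc G 3 = 80)
    (h5 : sc G 5 = 144) (hord' : ∀ m, 0 < sc G m → m ≤ 5) : IsSimpleGroup G := by
  classical
  have hord : ∀ g : G, orderOf g ≤ 5 := fun g => hord' _ (sc_pos_iff.mpr ⟨g, rfl⟩)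
  have : Nontrivial G := Finite.one_lt_card_iff_nontrivial.mp (by rw [hn]; norm_num)
  refine IsSimpleGroup.mk ?_
  intro N hN
  by_contra hcon
  push Not at hcon
  obtain ⟨hbot, htop⟩ := hcon
  have hd : Nat.card N ∣ 360 := by rw [← hn]; exact Subgroup.card_subgroup_dvd_card N
  have hd1 : Nat.card N ≠ 1 := fun h => hbot (Subgroup.eq_bot_of_card_eq N h)
  have hd360 : Nat.card N ≠ 360 := by
    intro h
    apply htop
    rw [← Subgroup.card_eq_iff_eq_top, h, hn]
  have hidx : Nat.card N * N.index = 360 := by rw [← hn]; exact Subgroup.card_mul_index N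
  have hdmem : Nat.card N ∈ Nat.divisors 360 := Nat.mem_divisors.mpr ⟨hd, by norm_num⟩
  -- sets of elements of given order
  have hO3 : {g : G | orderOf g = 3}.ncard = 80 := by
    rw [← Nat.card_coe_set_eq]; exact h3
  have hO5 : {g : G | orderOf g = 5}.ncard = 144 := by
    rw [← Nat.card_coe_set_eq]; exact h5
  have hNcard : (N : Set G).ncard = Nat.card N := by
    rw [← Nat.card_coe_set_eq]; rfl
  by_cases h5d : 5 ∣ Nat.card N
  · -- all elements of order 5 lie in `N`
    have hidx5 : ¬ 5 ∣ N.index := by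
      intro h
      obtain ⟨k, hk⟩ := h5d
      obtain ⟨l, hl⟩ := h
      rw [hk, hl] at hidx
      have : 25 * (k * l) = 360 := by rw [← hidx]; ring
      omega
    have h5N : ∀ g : G, orderOf g = 5 → g ∈ N := by
      intro g hg
      apply mem_of_coprime_index
      rw [hg, Nat.Prime.coprime_iff_not_dvd Nat.prime_five]
      exact hidx5
    have hle : 145 ≤ Nat.card N := by
      have hsub : insert (1 : G) {g : G | orderOf g = 5} ⊆ (N : Set G) := by
        intro g hg
        rcases hg with rfl | hg
        · exact N.one_mem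
        · exact h5N g hg
      have h6 := Set.ncard_le_ncard hsub (Set.toFinite _)
      rw [Set.ncard_insert_of_notMem (by
        intro h; rw [Set.mem_ofPred_eq, orderOf_one] at h; omega) (Set.toFinite _), hO5, hNcard] at h6
      omega
    have hsel : ∀ d ∈ Nat.divisors 360, 145 ≤ d → d ≠ 360 → d = 180 := by decide +kernel
    have h180 := hsel _ hdmem hle hd360
    rw [h180] at hidx
    have hidx2 : N.index = 2 := by omega
    have h3N : ∀ g : G, orderOf g = 3 → g ∈ N := by
      intro g hg
      apply mem_of_coprime_index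
      rw [hg, hidx2]
      decide
    have hsub : {g : G | orderOf g = 5} ∪ {g : G | orderOf g = 3} ⊆ (N : Set G) := by
      rintro g (hg | hg)
      · exact h5N g hg
      · exact h3N g hg
    have h6 := Set.ncard_le_ncard hsub (Set.toFinite _)
    rw [Set.ncard_union_eq (by
      rw [Set.disjoint_left]
      intro g hg1 hg2
      rw [Set.mem_ofPred_eq] at hg1 hg2
      omega) (Set.toFinite _) (Set.toFinite _), hO5, hO3, hNcard, h180] at h6
    omega
  · -- an element of order 5 acts on `N`
    obtain ⟨y, hy⟩ := sc_pos_iff.mp (show 0 < sc G 5 by rw [h5]; norm_num)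
    have hconjN : ∀ c x : G, x ∈ N → c * x * c⁻¹ ∈ N := fun c x hx => hN.conj_mem x hx c
    have hconj_ord : ∀ c x : G, orderOf (c * x * c⁻¹) = orderOf x := by
      intro c x
      have := (MulAut.conj c).orderOf_eq x
      rwa [MulAut.conj_apply] at this
    have hconj1 : ∀ c x : G, x ≠ 1 → c * x * c⁻¹ ≠ 1 := by
      intro c x hx h
      apply hx
      have : x = c⁻¹ * (c * x * c⁻¹) * c := by group
      rw [this, h]; group
    -- 5 divides |N| - 1
    have h51 : 5 ∣ ((N : Set G) \ {1}).ncard :=
      five_dvd_ncard hord y hy N h5d _ (fun x hx => ⟨hx.1, hx.2⟩)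
        (fun c x hx => ⟨hconjN c x hx.1, hconj1 c x hx.2⟩)
    have hcardY : ((N : Set G) \ {1}).ncard + 1 = Nat.card N := by
      rw [← hNcard]
      exact Set.ncard_sdiff_singleton_add_one N.one_mem (Set.toFinite _)
    have hsel : ∀ d ∈ Nat.divisors 360, ¬ 5 ∣ d → d ≠ 1 → 5 ∣ d - 1 → d = 6 ∨ d = 36 := by
      decide +kernel
    have h636 := hsel _ hdmem h5d hd1 (by
      obtain ⟨k, hk⟩ := h51
      exact ⟨k, by omega⟩)
    rcases h636 with h6 | h36
    · -- |N| = 6
      have h2N : 2 ∣ Nat.card N := by rw [h6]; norm_num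
      have h3N : 3 ∣ Nat.card N := by rw [h6]; norm_num
      have : Fact (Nat.Prime 2) := ⟨Nat.prime_two⟩
      have : Fact (Nat.Prime 3) := ⟨Nat.prime_three⟩
      obtain ⟨x2, hx2⟩ := exists_prime_orderOf_dvd_card' 2 h2N
      obtain ⟨x3, hx3⟩ := exists_prime_orderOf_dvd_card' 3 h3N
      have hY : ∀ r : ℕ, 2 ≤ r → 5 ∣ {x : G | x ∈ N ∧ orderOf x = r}.ncard := by
        intro r hr
        apply five_dvd_ncard hord y hy N h5d
        · rintro x ⟨hxN, hxr⟩
          refine ⟨hxN, ?_⟩
          rintro rfl
          rw [orderOf_one] at hxr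
          omega
        · rintro c x ⟨hxN, hxr⟩
          exact ⟨hconjN c x hxN, by rw [hconj_ord, hxr]⟩
      have hY2 := hY 2 (le_refl 2)
      have hY3 := hY 3 (by norm_num)
      have hne2 : 0 < {x : G | x ∈ N ∧ orderOf x = 2}.ncard := by
        rw [Set.ncard_pos (Set.toFinite _)]
        exact ⟨x2.1, x2.2, by rw [Subgroup.orderOf_coe]; exact hx2⟩
      have hne3 : 0 < {x : G | x ∈ N ∧ orderOf x = 3}.ncard := by
        rw [Set.ncard_pos (Set.toFinite _)]
        exact ⟨x3.1, x3.2, by rw [Subgroup.orderOf_coe]; exact hx3⟩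
      have hsub : {x : G | x ∈ N ∧ orderOf x = 2} ∪ {x : G | x ∈ N ∧ orderOf x = 3} ⊆
          (N : Set G) \ {1} := by
        rintro x (⟨hxN, hxr⟩ | ⟨hxN, hxr⟩)
        · refine ⟨hxN, ?_⟩
          rintro rfl
          rw [orderOf_one] at hxr
          omega
        · refine ⟨hxN, ?_⟩
          rintro rfl
          rw [orderOf_one] at hxr
          omega
      have h7 := Set.ncard_le_ncard hsub (Set.toFinite _)
      rw [Set.ncard_union_eq (by
        rw [Set.disjoint_left]
        rintro g ⟨-, hg1⟩ ⟨-, hg2⟩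
        omega) (Set.toFinite _) (Set.toFinite _)] at h7
      obtain ⟨k2, hk2⟩ := hY2
      obtain ⟨k3, hk3⟩ := hY3
      omega
    · -- |N| = 36
      rw [h36] at hidx
      have hidx10 : N.index = 10 := by omega
      have h3N : ∀ g : G, orderOf g = 3 → g ∈ N := by
        intro g hg
        have := hN
        apply mem_of_coprime_index
        rw [hg, hidx10]
        decide
      have hsub : {g : G | orderOf g = 3} ⊆ (N : Set G) := fun g hg => h3N g hg
      have h7 := Set.ncard_le_ncard hsub (Set.toFinite _)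
      rw [hO3, hNcard, h36] at h7
      omega

theorem iso_A6_of_card_360 (hn : Nat.card G = 360) (h3 : sc G 3 = 80)
    (h5 : sc G 5 = 144) (hord' : ∀ m, 0 < sc G m → m ≤ 5) :
    Nonempty (G ≃* ↥(alternatingGroup (Fin 6))) := by
  have := isSimpleGroup_of_card_360 hn h3 h5 hord'
  exact Cfsg.Agent.S0497.result hn

end Cfsg.Agent.Lib.Helper5.NSE
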