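import Mathlib
import Cfsg.Agent.Lib.Helper5.NSE.M11Nse
import Cfsg.Agent.Lib.Helper5.NSE.M11Simple

/-! `M₁₁` is determined by its order and its `nse` set, given the uniqueness of the simple group of
order `7920` (statement `S0420`). -/

set_option autoImplicit false
set_option linter.unusedSectionVars false
set_option linter.unusedVariables false
set_option linter.style.longLine false

namespace Cfsg.Agent.Lib.Helper5.NSE.M11R

open Cfsg
open scoped Pointwise

/-- a group with the order and the `nse` set of `M₁₁` is simple of order `7920` -/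
theorem isM11_of_nse {G : Type*} [Group G] [Finite G]
    (hcard : Nat.card G = Nat.card ↥Cfsg.Spor.M11)
    (hnse : {c : ℕ | 0 < c ∧ ∃ n : ℕ, c = Nat.card {g : G // orderOf g = n}} =
      {c : ℕ | 0 < c ∧ ∃ n : ℕ, c = Nat.card {g : ↥Cfsg.Spor.M11 // orderOf g = n}}) :
    Cfsg.IsM11 G := by
  rw [Cfsg.Agent.Lib.Helper9.M24P6.card_M11] at hcard
  rw [Cfsg.Agent.Lib.Helper5.NSE.M11S.nse_M11] at hnse
  exact ⟨isSimpleGroup_of_nse hcard hnse, hcard⟩

/-- `S3592` from `S0420` (in the instance needed) -/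
theorem s3592_of_s0420 {G : Type*} [Group G] [Finite G]
    (hcard : Nat.card G = Nat.card ↥Cfsg.Spor.M11)
    (hnse : {c : ℕ | 0 < c ∧ ∃ n : ℕ, c = Nat.card {g : G // orderOf g = n}} =
      {c : ℕ | 0 < c ∧ ∃ n : ℕ, c = Nat.card {g : ↥Cfsg.Spor.M11 // orderOf g = n}})
    (h0420 : Cfsg.IsM11 G → Nonempty (G ≃* ↥(MulAction.stabilizer Cfsg.M24 Cfsg.Spor.squareDodecad ⊓
      MulAction.stabilizer Cfsg.M24 (some 0 : Cfsg.GolayPt)))) :
    Nonempty (G ≃* ↥Cfsg.Spor.M11) := by
  obtain ⟨e⟩ := h0420 (isM11_of_nse hcard hnse)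
  exact ⟨e.trans Cfsg.Agent.Lib.Helper2.M11Fus.eM11.symm⟩

end Cfsg.Agent.Lib.Helper5.NSE.M11R
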